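import Groth.Agent.Lib.UnifReg.SurjProp
import Groth.Agent.Lib.SurfInt.Hodge
import Groth.Agent.Lib.ExtHH.SheafHom
import Groth.Agent.Lib.AssPt.Modules
import Groth.Agent.Lib.CohBasics.Affine
import Groth.Agent.Lib.CohBasics.Closure
import Groth.Agent.Lib.ProjSpace.Dim
import Mathlib.RingTheory.Ideal.AssociatedPrime.Finiteness
import Mathlib.RingTheory.Ideal.MinimalPrime.Colon

/-!
# Hyperplanes avoiding the associated points

* `mulS s : 𝟭 ⟶ (- ⊗ L)`, injective when `s` generates at the associated points.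
* `finite_assPoints`: a coherent module on a noetherian scheme has finitely many associated points.
* `exists_section`: over an infinite field a linear form avoids finitely many points.
* `powNat`: iterated twists are twists, naturally.
-/

set_option autoImplicit false
universe u

open CategoryTheory CategoryTheory.Limits AlgebraicGeometry TopologicalSpace Opposite

noncomputable section

namespace Groth.Agent.Lib.UnifReg.Hyperplane

open Groth.Agent.Lib TensorMod.Basic

section General

variable {X : Scheme.{u}} {L : X.Modules}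

/-- Multiplication by a section. -/
def mulS (s : Coh.structureModule X ⟶ L) : 𝟭 X.Modules ⟶ tensorBy L where
  app M := (rightUnit M).inv ≫ tmap (𝟙 M) s
  naturality M N f := by
    change f ≫ (rightUnit N).inv ≫ tmap (𝟙 N) s =
      ((rightUnit M).inv ≫ tmap (𝟙 M) s) ≫ tmap f (𝟙 _)
    have h : f ≫ (rightUnit N).inv = (rightUnit M).inv ≫ tmap f (𝟙 _) := by
      rw [Iso.eq_inv_comp, ← Category.assoc, Iso.comp_inv_eq]
      exact (rightUnit_natural f).symm
    rw [reassoc_of% h, Category.assoc, ← tmap_comp, ← tmap_comp]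
    simp only [Category.id_comp, Category.comp_id]

theorem mulS_natural (s : Coh.structureModule X ⟶ L) {A B : X.Modules} (f : A ⟶ B) :
    (mulS s).app A ≫ tmap f (𝟙 L) = f ≫ (mulS s).app B :=
  ((mulS s).naturality f).symm

open TensorMod.Pullback in
theorem isIso_pb_mulS (s : Coh.structureModule X ⟶ L) {Y : Scheme.{u}} (j : Y ⟶ X)
    [hs : IsIso ((pb j).map s)] (M : X.Modules) : IsIso ((pb j).map ((mulS s).app M)) := by
  have hiso : IsIso (tmap (𝟙 ((pb j).obj M)) ((pb j).map s)) :=
    (tensorIso (Iso.refl _) (asIso ((pb j).map s))).isIso_hom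
  have hnat : (pullbackTensorIso j M (Coh.structureModule _)).hom ≫
      tmap (𝟙 ((pb j).obj M)) ((pb j).map s) =
      (pb j).map (tmap (𝟙 M) s) ≫ (pullbackTensorIso j M L).hom := by
    rw [← CategoryTheory.Functor.map_id]
    exact (delta_natural j (𝟙 M) s).symm
  have : IsIso ((pb j).map (tmap (𝟙 M) s)) := by
    have e := congrArg (· ≫ (pullbackTensorIso j M L).inv) hnat
    simp only [Category.assoc, Iso.hom_inv_id, Category.comp_id] at e
    rw [← e]
    infer_instance
  change IsIso ((pb j).map ((rightUnit M).inv ≫ tmap (𝟙 M) s))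
  rw [Functor.map_comp]
  infer_instance

theorem bijective_stalk_mulS (s : Coh.structureModule X ⟶ L) {x : X}
    (hx : x ∈ CohB1.genLocus L s) (M : X.Modules) :
    Function.Bijective (Modules.StalkModule.stalkMapₗ ((mulS s).app M) x) := by
  obtain ⟨U, hxU, hU⟩ := (Ample.GenLocus.mem_genLocus_iff s).1 hx
  have h1 := (Ample.GenLocus.isIso_restrict_iff s U).2 hU
  have h2 : IsIso ((Scheme.Modules.pullback U.ι).map s) :=
    (NatIso.isIso_map_iff (Scheme.Modules.restrictFunctorIsoPullback U.ι) _).1 h1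
  have h3 := @isIso_pb_mulS X L s _ U.ι h2 M
  exact ExtHH.SheafHom.bijective_stalk_of_isIso_restrict
    ((NatIso.isIso_map_iff (Scheme.Modules.restrictFunctorIsoPullback U.ι) _).2 h3) hxU

theorem mono_mulS (s : Coh.structureModule X ⟶ L) {M : X.Modules} (hM : Coh.IsQCoh M)
    (h : ∀ x, Curv2.IsAssPoint M x → x ∈ CohB1.genLocus L s) : Mono ((mulS s).app M) :=
  haveI : ((𝟭 X.Modules).obj M).IsQuasicoherent := hM
  AssPt.Modules.mono_of_stalk_injective _ fun x hx => (bijective_stalk_mulS s (h x hx) M).1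

/-- The cokernel lives on the support, off the locus where `s` generates. -/
theorem support_coker (s : Coh.structureModule X ⟶ L) (M : X.Modules) {x : X}
    (h : ¬ Subsingleton ((cokernel ((mulS s).app M)).presheaf.stalk x)) :
    x ∉ CohB1.genLocus L s ∧ ¬ Subsingleton (((tensorBy L).obj M).presheaf.stalk x) := by
  have hπ : Function.Surjective (Modules.StalkModule.stalkMapₗ (cokernel.π ((mulS s).app M)) x) :=
    (Modules.StalkModule.epi_iff_stalkMapₗ_surjective _).mp inferInstance x
  refine ⟨fun hx => h ?_, fun hsub => h hπ.subsingleton⟩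
  refine subsingleton_of_forall_eq 0 fun z => ?_
  obtain ⟨y, rfl⟩ := hπ z
  obtain ⟨w, rfl⟩ := (bijective_stalk_mulS s hx M).2 y
  rw [← LinearMap.comp_apply, ← Modules.StalkModule.stalkMapₗ_comp, cokernel.condition]
  simp

/-- Coherent modules have finitely many associated points. -/
theorem finite_assPoints [IsNoetherian X] {M : X.Modules} (hM : Coh.IsCoh M) :
    {x : X | Curv2.IsAssPoint M x}.Finite := by
  haveI := hM.1
  haveI := hM.2
  have key : ∀ U : X.Opens, IsAffineOpen U → {x : X | x ∈ U ∧ Curv2.IsAssPoint M x}.Finite := by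
    intro U hU
    haveI : IsNoetherianRing Γ(X, U) := IsLocallyNoetherian.component_noetherian ⟨U, hU⟩
    haveI : Module.Finite Γ(X, U) Γ(M, U) := CohBasics.Affine.finite_sections hU
    let P := associatedPrimes Γ(X, U) Γ(M, U)
    have hP : P.Finite := associatedPrimes.finite Γ(X, U) Γ(M, U)
    haveI := hP.to_subtype
    have hf : Set.Finite {p : U | Curv2.IsAssPoint M p.1} := by
      refine Set.Finite.of_finite_image (f := fun p => (hU.primeIdealOf p).asIdeal)
        (hP.subset ?_) fun a _ b _ hab => ?_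
      · rintro _ ⟨p, hp, rfl⟩
        obtain ⟨t, ht⟩ := (AssPt.Modules.isAssPoint_iff hU p.2).1 hp
        exact isAssociatedPrime_iff.2 ⟨ht.1.1, Submodule.exists_eq_colon_of_mem_minimalPrimes ht⟩
      · have h1 : hU.primeIdealOf a = hU.primeIdealOf b := PrimeSpectrum.ext hab
        exact Subtype.ext ((hU.fromSpec_primeIdealOf a).symm.trans
          (h1 ▸ hU.fromSpec_primeIdealOf b))
    refine (hf.image Subtype.val).subset fun x hx => ⟨⟨x, hx.1⟩, hx.2, rfl⟩
  have h0 : ∀ x : X, ∃ U : X.Opens, IsAffineOpen U ∧ x ∈ U := fun x => by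
    obtain ⟨U, hU, hxU, -⟩ := exists_isAffineOpen_mem_and_subset
      (show x ∈ (⊤ : X.Opens) from trivial)
    exact ⟨U, hU, hxU⟩
  choose V hV hxV using h0
  obtain ⟨s, hs⟩ := CompactSpace.elim_nhds_subcover (fun x : X => ((V x : X.Opens) : Set X))
    fun x => (V x).isOpen.mem_nhds (hxV x)
  refine (s.finite_toSet.biUnion fun x _ => key (V x) (hV x)).subset fun y hy => ?_
  have hy' := hs.ge (Set.mem_univ y)
  simp only [Set.mem_iUnion] at hy' ⊢
  obtain ⟨i, hi, hyi⟩ := hy'
  exact ⟨i, hi, hyi, hy⟩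

/-- `(- ⊗ A) ⊗ B ≅ - ⊗ C`. -/
def tensorByComp {A B C : X.Modules} (e : CohB1.tensorMod A B ≅ C) :
    tensorBy A ⋙ tensorBy B ≅ tensorBy C :=
  NatIso.ofComponents (fun M => assoc M A B ≪≫ tensorIso (Iso.refl M) e) fun {M N} f => by
    change tmap (tmap f (𝟙 A)) (𝟙 B) ≫ (assoc N A B).hom ≫ tmap (𝟙 N) e.hom =
      ((assoc M A B).hom ≫ tmap (𝟙 M) e.hom) ≫ tmap f (𝟙 C)
    rw [assoc_natural_assoc, Category.assoc, ← tmap_comp, ← tmap_comp, tmap_id]
    simp only [Category.id_comp, Category.comp_id]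

end General

open ProjCoh.Coherent ProjKoszul

variable {n : ℕ} {k : Type u} [Field k]

/-- A linear form avoiding finitely many points. -/
theorem exists_section [Infinite k] {S : Set (CohB1.ProjSpace n k)} (hS : S.Finite) :
    ∃ s : Coh.structureModule (CohB1.ProjSpace n k) ⟶ tw n k 1,
      ∀ x ∈ S, x ∈ CohB1.genLocus (tw n k 1) s := by
  haveI : IsProper (CohB1.ProjSpace n k ↘ Spec (CommRingCat.of k)) :=
    ProjSpace.Basic.isProper_toSpec n k
  haveI := Curves.GlobalSections.isNoetherian_of_proper k (CohB1.ProjSpace n k)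
  refine SurfInt.Hodge.exists_avoiding_family (CohB1.ProjSpace.toSpec n k) (isInvertible_tw 1)
    (Mult.sect (n := n) (R := k)) hS fun x _ => ?_
  obtain ⟨t, ht⟩ := Mult.exists_mem_chart (R := k) x
  refine ⟨t, (Ample.GenLocus.mem_genLocus_iff _).2 ⟨Mult.chart n k t, ht,
    (Ample.GenLocus.isIso_restrict_iff _ _).1 ?_⟩⟩
  exact (NatIso.isIso_map_iff (Scheme.Modules.restrictFunctorIsoPullback (Mult.chart n k t).ι) _).2
    (Mult.isIso_pb_sect t)

/-- `(- ⊗ O(a)) ⊗ O(b) ≅ - ⊗ O(c)`. -/
def twTwist (a b c : ℤ) (h : a + b = c) :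
    tensorBy (tw n k a) ⋙ tensorBy (tw n k b) ≅ tensorBy (tw n k c) :=
  tensorByComp (twTensor a b ≪≫ eqToIso (congrArg (tw n k) h))

variable (n k) in
/-- Iterated twists. -/
def powNat : ∀ m : ℕ, Iterate.pow (Regularity.T n k) m ≅ tensorBy (tw n k (m : ℤ))
  | 0 => NatIso.ofComponents
      (fun M => (rightUnit M).symm ≪≫ tensorIso (Iso.refl M) twZero.symm) fun {M N} f => by
    change f ≫ (rightUnit N).inv ≫ tmap (𝟙 N) _ = ((rightUnit M).inv ≫ tmap (𝟙 M) _) ≫ tmap f (𝟙 _)
    have h : f ≫ (rightUnit N).inv = (rightUnit M).inv ≫ tmap f (𝟙 _) := by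
      rw [Iso.eq_inv_comp, ← Category.assoc, Iso.comp_inv_eq]
      exact (rightUnit_natural f).symm
    rw [reassoc_of% h, Category.assoc, ← tmap_comp, ← tmap_comp]
    simp only [Category.id_comp, Category.comp_id]
  | m + 1 => Functor.isoWhiskerLeft (Regularity.T n k) (powNat m) ≪≫
      twTwist 1 (m : ℤ) _ (by push_cast; ring)

/-- `pow m` after a twist. -/
def powTwist (m : ℕ) (a b : ℤ) (h : a + m = b) :
    tensorBy (tw n k a) ⋙ Iterate.pow (Regularity.T n k) m ≅ tensorBy (tw n k b) :=
  Functor.isoWhiskerLeft _ (powNat n k m) ≪≫ twTwist a (m : ℤ) b h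

end Groth.Agent.Lib.UnifReg.Hyperplane
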