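import Groth.Agent.Lib.UnifReg.Main
import Groth.Agent.H97.GenLocusAffine
import Groth.Agent.H75.RedSub
import Groth.Agent.Lib.HProj.QuasiProj
import Groth.Agent.Lib.SurfInt.Surface
import Groth.Agent.Lib.SurfInt.ColonSeq
import Groth.Agent.Lib.Devissage.Closure
import Groth.Agent.Lib.Cyc.DimFun
import Groth.Agent.Lib.Cyc.Retr.Additive
import Groth.Agent.Lib.RefHull.LocFree
import Mathlib.RingTheory.Ideal.KrullsHeightTheorem
import Mathlib.AlgebraicGeometry.Morphisms.Finite

/-!
# The degree of the Hilbert polynomial bounds the dimension of the support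

* `exists_drop`: a hyperplane meets `closure {y}` in dimension `pdim y - 1`.
* `suppLT_of_chi`: `deg χ(E(t)) < d ⇒ dim supp E < d`.
-/

set_option autoImplicit false
universe u

open CategoryTheory CategoryTheory.Limits AlgebraicGeometry TopologicalSpace Opposite
open scoped TensorProduct

noncomputable section

namespace Groth.Agent.Lib.UnifReg.Degree

open Groth.Agent.Lib TensorMod.Basic ProjCoh.Coherent Step Hyperplane ProjKoszul

variable {n : ℕ} {k : Type u} [Field k]

local notation "P" => CohB1.ProjSpace n k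

/-- The structure morphism. -/
abbrev st (n : ℕ) (k : Type u) [Field k] : CohB1.ProjSpace n k ⟶ Spec (CommRingCat.of k) :=
  CohB1.ProjSpace n k ↘ Spec (CommRingCat.of k)

theorem isProper_st : IsProper (st n k) := ProjSpace.Basic.isProper_toSpec n k

theorem isAffineOpen_genLocus (s : Coh.structureModule P ⟶ tw n k 1) :
    IsAffineOpen (CohB1.genLocus (tw n k 1) s) :=
  haveI := isProper_st (n := n) (k := k)
  H97.GenLocusAffine.isAffineOpen_genLocus (st n k) (HProj.QuasiProj.isAmple_twist_projSpace n k) s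

/-- A closed positive dimensional set leaves every hyperplane complement. -/
theorem exists_notMem (s : Coh.structureModule P ⟶ tw n k 1) {y : P}
    (hy : VarDim.Basic.pdim (st n k) y ≠ 0) :
    ∃ x, y ⤳ x ∧ x ∉ CohB1.genLocus (tw n k 1) s := by
  haveI := isProper_st (n := n) (k := k)
  haveI := isNoetherian_proj n k
  by_contra hc
  push Not at hc
  let C := IntMult.ptIdeal y
  let i := C.subschemeι
  let G := CohB1.genLocus (tw n k 1) s
  haveI : IsReduced C.subscheme := H75.RedSub.isReduced_vanishingIdeal _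
  haveI : IrreducibleSpace C.subscheme := by
    obtain ⟨w, hw⟩ : y ∈ Set.range i := by
      rw [Devissage.Closure.range_ptIdeal y]; exact subset_closure rfl
    have hcl : closure {w} = Set.univ := by
      rw [i.isClosedEmbedding.isInducing.closure_eq_preimage_closure_image, Set.image_singleton, hw,
        ← Devissage.Closure.range_ptIdeal y, Set.preimage_range]
    exact { isPreirreducible_univ := hcl ▸ isIrreducible_singleton.closure.2
            toNonempty := ⟨w⟩ }
  haveI : IsIntegral C.subscheme := isIntegral_of_irreducibleSpace_of_isReduced _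
  have hsub : Set.range i ⊆ Set.range G.ι := by
    rintro _ ⟨w, rfl⟩
    rw [Scheme.Opens.range_ι]
    refine hc _ (specializes_iff_mem_closure.2 ?_)
    have hw : i w ∈ Set.range i := ⟨w, rfl⟩
    rwa [Devissage.Closure.range_ptIdeal y] at hw
  let j : C.subscheme ⟶ (G : Scheme.{u}) := IsOpenImmersion.lift G.ι i hsub
  haveI : IsClosedImmersion (j ≫ G.ι) := by
    rw [IsOpenImmersion.lift_fac]; infer_instance
  haveI : IsClosedImmersion j := IsClosedImmersion.of_comp j G.ι
  haveI : IsAffine (G : Scheme.{u}) := isAffineOpen_genLocus s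
  haveI : IsAffine C.subscheme := isAffine_of_isAffineHom j
  letI : C.subscheme.Over (Spec (CommRingCat.of k)) := ⟨i ≫ st n k⟩
  haveI : IsProper (C.subscheme ↘ Spec (CommRingCat.of k)) := inferInstanceAs (IsProper (i ≫ st n k))
  letI : Algebra k Γ(C.subscheme, ⊤) :=
    RingHom.toAlgebra (S := Γ(C.subscheme, ⊤)) (Coh.toGlobal (C.subscheme ↘ Spec (CommRingCat.of k)))
  haveI : Module.Finite k Γ(C.subscheme, ⊤) := Curves.GlobalSections.finite_toGlobal k C.subscheme
  have hF : IsField Γ(C.subscheme, ⊤) := isField_of_isIntegral_of_isField' (Field.toIsField k)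
  have h1 : topologicalKrullDim C.subscheme = 0 := by
    rw [IsHomeomorph.topologicalKrullDim_eq _ C.subscheme.isoSpec.hom.homeomorph.isHomeomorph]
    exact (PrimeSpectrum.topologicalKrullDim_eq_ringKrullDim _).trans
      (ringKrullDim_eq_zero_of_isField hF)
  rw [SurfInt.Surface.dim_subscheme, show (C.support : Set P) = closure ({y} : Set P) from rfl,
    VarDim.Basic.topologicalKrullDim_isGenericPoint (st n k)
      (show IsGenericPoint y (closure ({y} : Set P)) from rfl)] at h1
  exact hy (by exact_mod_cast h1)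

/-- A hyperplane through no generic point cuts the dimension down by one. -/
theorem exists_drop (s : Coh.structureModule P ⟶ tw n k 1) {y : P}
    (hy : y ∈ CohB1.genLocus (tw n k 1) s) (hy0 : VarDim.Basic.pdim (st n k) y ≠ 0) :
    ∃ x, y ⤳ x ∧ x ∉ CohB1.genLocus (tw n k 1) s ∧
      VarDim.Basic.pdim (st n k) y ≤ VarDim.Basic.pdim (st n k) x + 1 := by
  classical
  haveI := isProper_st (n := n) (k := k)
  haveI := isNoetherian_proj n k
  let G := CohB1.genLocus (tw n k 1) s
  obtain ⟨x₀, hx₀⟩ := exists_notMem s hy0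
  let S : Set ℕ := {e | ∃ x, y ⤳ x ∧ x ∉ G ∧ VarDim.Basic.pdim (st n k) x = e}
  have hbdd : BddAbove S :=
    ⟨VarDim.Basic.pdim (st n k) y, fun e ⟨x, hx, _, he⟩ => he ▸ VarDim.Basic.pdim_le _ hx⟩
  obtain ⟨x, hyx, hxG, hxe⟩ := Nat.sSup_mem (s := S) ⟨_, x₀, hx₀.1, hx₀.2, rfl⟩ hbdd
  refine ⟨x, hyx, hxG, ?_⟩
  obtain ⟨U, e, hxU, he⟩ := TensorMod.Gen.isInvertible_iff.1 (isInvertible_tw (n := n) (R := k) 1) x
  obtain ⟨a, ha⟩ := Ample.GenLocus.exists_coord he (Ample.GenLocus.sv s U)
  have hG : G ⊓ U = (P).basicOpen a := Ample.GenLocus.genLocus_inf_eq he s ha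
  let c := (P).presheaf.germ U x hxU a
  -- the generalisations of `x` below `y` contain `c` exactly off `G`
  have key : ∀ z (hz : z ⤳ x), (c ∈ (Cyc.DimFun.genPrime x z hz).asIdeal ↔ z ∉ G) := by
    intro z hz
    have hzU : z ∈ U := hz.mem_open U.isOpen hxU
    rw [Cyc.DimFun.genPrime_eq, PrimeSpectrum.comap_asIdeal, _root_.Ideal.mem_comap]
    change (P).presheaf.stalkSpecializes hz c ∈ _ ↔ _
    rw [TopCat.Presheaf.germ_stalkSpecializes_apply]
    refine (IsLocalRing.mem_maximalIdeal _).trans (not_congr ?_)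
    rw [← Scheme.mem_basicOpen _ a z hzU, ← hG]
    exact ⟨fun h => h.1, fun h => ⟨h, hzU⟩⟩
  obtain ⟨p, hp⟩ : ∃ p, p = Cyc.DimFun.genPrime x y hyx := ⟨_, rfl⟩
  let D := (P).presheaf.stalk x ⧸ p.asIdeal
  have hD : ringKrullDim D =
      ((Cyc.FieldDim.fdelta (st n k) y - Cyc.FieldDim.fdelta (st n k) x).toNat : WithBot ℕ∞) := by
    subst hp
    exact Cyc.DimFun.ringKrullDim_locQuot (Cyc.FieldDim.isDimFun_fdelta (st n k)) x y hyx
  haveI : Nontrivial D := Ideal.Quotient.nontrivial_iff.2 p.isPrime.ne_top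
  haveI : IsLocalHom (Ideal.Quotient.mk p.asIdeal) :=
    IsLocalHom.of_surjective _ Ideal.Quotient.mk_surjective
  haveI : IsLocalRing D := IsLocalRing.of_surjective' (Ideal.Quotient.mk p.asIdeal) Ideal.Quotient.mk_surjective
  have hmin : (IsLocalRing.maximalIdeal D) ∈ (Ideal.span {Ideal.Quotient.mk p.asIdeal c}).minimalPrimes := by
    refine ⟨⟨inferInstance, ?_⟩, fun q ⟨hq, hcq⟩ _ => ?_⟩
    · rw [_root_.Ideal.span_le, Set.singleton_subset_iff, SetLike.mem_coe, IsLocalRing.mem_maximalIdeal]
      intro hu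
      have hcu : IsUnit c := isUnit_of_map_unit _ c hu
      refine hxG ?_
      have : x ∈ (P).basicOpen a := (Scheme.mem_basicOpen _ a x hxU).2 hcu
      rw [← hG] at this
      exact this.1
    · haveI := hq
      let q' : PrimeSpectrum ((P).presheaf.stalk x) :=
        ⟨q.comap (Ideal.Quotient.mk p.asIdeal), inferInstance⟩
      have hcq' : c ∈ q'.asIdeal := hcq (_root_.Ideal.subset_span rfl)
      have hpq : p ≤ q' := by
        intro z hz
        change Ideal.Quotient.mk p.asIdeal z ∈ q
        rw [Ideal.Quotient.eq_zero_iff_mem.2 hz]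
        exact q.zero_mem
      let z := (P).fromSpecStalk x q'
      have hzx : z ⤳ x := Cyc.DimFun.fromSpecStalk_specializes_self x q'
      have hqz : q' = Cyc.DimFun.genPrime x z hzx := Cyc.DimFun.eq_genPrime x q'
      have hyz : y ⤳ z := by
        rw [← Cyc.DimFun.fromSpecStalk_genPrime x y hyx, ← hp]
        exact (Cyc.DimFun.fromSpecStalk_specializes_iff x p q').2 hpq
      have hzG : z ∉ G := (key z hzx).1 (hqz ▸ hcq')
      have hzx' : z = x := by
        refine VarDim.Basic.eq_of_pdim_le (st n k) hzx ?_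
        rw [hxe]
        exact le_csSup hbdd ⟨z, hyz, hzG, rfl⟩
      have hq'm : q' = IsLocalRing.closedPoint _ := by
        refine Cyc.DimFun.fromSpecStalk_injective x ?_
        exact hzx'.trans Scheme.fromSpecStalk_closedPoint.symm
      intro w hw
      obtain ⟨w, rfl⟩ := Ideal.Quotient.mk_surjective w
      change w ∈ q'.asIdeal
      rw [hq'm]
      exact fun hwu => (IsLocalRing.mem_maximalIdeal _).1 hw (hwu.map _)
  have hh := _root_.Ideal.height_le_one_of_isPrincipal_of_mem_minimalPrimes _ _ hmin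
  have hdim : ringKrullDim D ≤ 1 := by
    rw [← IsLocalRing.maximalIdeal_height_eq_ringKrullDim]
    exact_mod_cast hh
  rw [hD] at hdim
  have h2 : (Cyc.FieldDim.fdelta (st n k) y - Cyc.FieldDim.fdelta (st n k) x).toNat ≤ 1 := by
    exact_mod_cast hdim
  rw [VarDim.Basic.fdelta_eq, VarDim.Basic.fdelta_eq] at h2
  omega

/-- The hyperplane section is supported on the whole trace of the support. -/
theorem mem_supp_res {s : Coh.structureModule P ⟶ tw n k 1} {M : (P).Modules} (hM : Coh.IsCoh M)
    (hm : Mono (nu s M)) {x : P} (hx : x ∉ CohB1.genLocus (tw n k 1) s)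
    (hxM : ¬ Subsingleton (M.presheaf.stalk x)) : ¬ Subsingleton ((res s M).presheaf.stalk x) := by
  intro hres
  let L := tw n k 1
  let A := tM M (-1)
  obtain ⟨U, e, hxU, he⟩ := TensorMod.Gen.isInvertible_iff.1 (isInvertible_tw (n := n) (R := k) 1) x
  obtain ⟨a, ha⟩ := Ample.GenLocus.exists_coord he (Ample.GenLocus.sv s U)
  have hc : (P).presheaf.germ U x hxU a ∈ IsLocalRing.maximalIdeal ((P).presheaf.stalk x) := by
    rw [IsLocalRing.mem_maximalIdeal]
    intro hu
    have h : x ∈ (P).basicOpen a := (Scheme.mem_basicOpen _ a x hxU).2 hu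
    rw [← Ample.GenLocus.genLocus_inf_eq he s ha] at h
    exact hx h.1
  let 𝔪 := IsLocalRing.maximalIdeal ((P).presheaf.stalk x)
  -- the image of `s` lies in `𝔪 L_x`
  have hs : ∀ v, Modules.StalkModule.stalkMapₗ s x v ∈
      (𝔪 • ⊤ : Submodule ((P).presheaf.stalk x) (L.presheaf.stalk x)) := by
    intro v
    obtain ⟨r, rfl⟩ : ∃ r, r • (SurfInt.Stalk.oStalk x).symm 1 = v :=
      ⟨SurfInt.Stalk.oStalk x v, (SurfInt.Stalk.oStalk x).injective (by
        rw [map_smul, LinearEquiv.apply_symm_apply, smul_eq_mul, mul_one])⟩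
    rw [map_smul]
    refine Submodule.smul_mem _ _ ?_
    change SurfInt.Div.germOne L s x ∈ _
    rw [SurfInt.Div.germOne_eq L s hxU,
      show SecTwist.val s U = a • e from (Ample.GenLocus.sv_eq_val s U).symm.trans ha,
      Modules.StalkModule.germ_smul]
    exact Submodule.smul_mem_smul hc Submodule.mem_top
  have hrange : ∀ w, Modules.StalkModule.stalkMapₗ (nu s M) x w ∈
      (𝔪 • ⊤ : Submodule ((P).presheaf.stalk x) ((tM A 1).presheaf.stalk x)) := by
    intro w
    have e1 : nu s M = (rightUnit A).inv ≫ tmap (𝟙 A) s := rfl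
    rw [e1, Modules.StalkModule.stalkMapₗ_comp, LinearMap.comp_apply]
    generalize Modules.StalkModule.stalkMapₗ (rightUnit A).inv x w = z
    obtain ⟨t, rfl⟩ := (DerivedOX.TensorSheaf.tensorStalk x A (Coh.structureModule P)).symm.surjective z
    let Φ := (Modules.StalkModule.stalkMapₗ (tmap (𝟙 A) s) x).comp
      (DerivedOX.TensorSheaf.tensorStalk x A (Coh.structureModule P)).symm.toLinearMap
    change Φ t ∈ _
    induction t using TensorProduct.induction_on with
    | zero => rw [map_zero]; exact zero_mem _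
    | add t t' h h' => rw [map_add]; exact add_mem h h'
    | tmul b v =>
      change Modules.StalkModule.stalkMapₗ (tmap (𝟙 A) s) x
        ((DerivedOX.TensorSheaf.tensorStalk x A (Coh.structureModule P)).symm (b ⊗ₜ v)) ∈ _
      rw [SurfInt.ColonSeq.stalk_tmap]
      let ψ : L.presheaf.stalk x →ₗ[(P).presheaf.stalk x] (tM A 1).presheaf.stalk x :=
        (DerivedOX.TensorSheaf.tensorStalk x A L).symm.toLinearMap.comp (TensorProduct.mk _ _ _ b)
      have h := Submodule.mem_map_of_mem (f := ψ) (hs v)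
      rw [Submodule.map_smul''] at h
      exact Submodule.smul_mono le_rfl le_top h
  have hex := (Cyc.Retr.Additive.stalk_exact (shortExact_seq s M hm) x).2.2
  have htop : (⊤ : Submodule ((P).presheaf.stalk x) ((tM A 1).presheaf.stalk x)) ≤ 𝔪 • ⊤ := by
    intro w _
    obtain ⟨v, hv⟩ := (hex w).1 (@Subsingleton.elim _ hres _ _)
    exact hv ▸ hrange v
  haveI : Module.Finite ((P).presheaf.stalk x) ((tM A 1).presheaf.stalk x) :=
    haveI := isNoetherian_proj n k
    RefHull.LocFree.finite_stalk
      (isCoh_tensorMod (isCoh_tensorMod hM (isCoh_tw (-1))) (isCoh_tw 1)) x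
  have hbot := Submodule.eq_bot_of_le_smul_of_le_jacobson_bot 𝔪 ⊤ Module.Finite.fg_top htop
    (IsLocalRing.jacobson_eq_maximalIdeal ⊥ bot_ne_top).ge
  haveI hsub : Subsingleton ((tM A 1).presheaf.stalk x) :=
    (Submodule.subsingleton_iff _).1 (subsingleton_of_bot_eq_top hbot.symm)
  obtain ⟨e₁⟩ := Snapper.Twist.exists_stalkEquiv_twist (isInvertible_tw (n := n) (R := k) 1) A x
  obtain ⟨e₂⟩ := Snapper.Twist.exists_stalkEquiv_twist (isInvertible_tw (n := n) (R := k) (-1)) M x
  refine hxM ?_
  refine @Function.Injective.subsingleton _ _ _ e₂.symm.injective ?_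
  refine @Function.Injective.subsingleton _ _ _
    (Modules.StalkModule.stalkLinearEquiv (comm (tw n k (-1)) M) x).injective ?_
  refine @Function.Injective.subsingleton _ _ _ e₁.symm.injective ?_
  exact @Function.Injective.subsingleton _ _ _
    (Modules.StalkModule.stalkLinearEquiv (comm (tw n k 1) A) x).injective hsub

open Polynomial in
theorem eval_delta (Q : ℚ[X]) (t : ℤ) :
    (Q - Q.comp (X - C 1)).eval (t : ℚ) = Q.eval (t : ℚ) - Q.eval ((t - 1 : ℤ) : ℚ) := by
  simp

open Polynomial in
theorem degree_delta {Q : ℚ[X]} {d : ℕ} (h : Q.degree < ((d + 1 : ℕ) : WithBot ℕ)) :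
    (Q - Q.comp (X - C 1)).degree < (d : WithBot ℕ) := by
  rcases eq_or_ne Q 0 with rfl | hQ
  · simp
  rcases Nat.eq_zero_or_pos Q.natDegree with h0 | hpos
  · obtain ⟨c, rfl⟩ := Polynomial.natDegree_eq_zero.1 h0
    simp
  · have hnd : Q.natDegree ≤ d := by
      rw [Polynomial.degree_eq_natDegree hQ] at h
      exact Nat.lt_succ_iff.1 (by exact_mod_cast h)
    have hd : (Q - Q.comp (X - C 1)).degree < Q.degree := by
      refine Polynomial.degree_sub_lt ?_ hQ ?_
      · rw [Polynomial.degree_eq_natDegree hQ, Polynomial.degree_eq_natDegree, Polynomial.natDegree_comp,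
          Polynomial.natDegree_X_sub_C, mul_one]
        exact (Polynomial.comp_eq_zero_iff).not.2 (by
          rintro (h1 | ⟨-, h1⟩)
          · exact hQ h1
          · have := congrArg Polynomial.natDegree h1
            rw [Polynomial.natDegree_X_sub_C, Polynomial.natDegree_C] at this
            exact one_ne_zero this)
      · rw [Polynomial.leadingCoeff_comp (by rw [Polynomial.natDegree_X_sub_C]; exact one_ne_zero),
          Polynomial.leadingCoeff_X_sub_C, one_pow, mul_one]
    refine hd.trans_le ?_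
    rw [Polynomial.degree_eq_natDegree hQ]
    exact_mod_cast hnd

/-- **The degree of the Hilbert polynomial bounds the dimension of the support.** -/
theorem suppLT_of_chi [Infinite k] : ∀ (d : ℕ) (E : (P).Modules) (Q : Polynomial ℚ), Coh.IsCoh E →
    (∀ t : ℤ, (chi E t : ℚ) = Q.eval (t : ℚ)) → Q.degree < (d : WithBot ℕ) → SuppLT E d
  | 0, E, Q, hE, hQ, hdeg => by
    haveI := isNoetherian_proj n k
    have hQ0 : Q = 0 := Polynomial.degree_eq_bot.1 (by simpa using hdeg)
    intro x hx
    exfalso
    obtain ⟨d₀, hd₀⟩ := exists_forall_subsingleton E hE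
    obtain ⟨d₁, hd₁⟩ := Ample.GG.eventually_genAt_twist (HProj.QuasiProj.isAmple_twist_projSpace n k) E hE
    let t : ℕ := max d₀ d₁
    have hh : hd E t = 0 := by
      have h := hQ (t : ℤ)
      rw [hQ0, Polynomial.eval_zero] at h
      have hc : chi E (t : ℤ) = (hd E t : ℤ) := by
        unfold chi FGA.eulerCharLE
        rw [Finset.sum_eq_single 0 (fun q _ hq => ?_) (by simp)]
        · simp [hd, Curves.Euler.hdim]
        · obtain ⟨q', rfl⟩ : ∃ q', q = q' + 1 := ⟨q - 1, by omega⟩
          have := hd₀ (t : ℤ) (by omega) q'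
          simp [Module.finrank_zero_of_subsingleton]
      rw [hc] at h
      exact_mod_cast h
    haveI := fin_tM hE (t : ℤ) 0
    have hsub : Subsingleton (Coh.HH P (tM E (t : ℤ)) 0) := Module.finrank_zero_iff.1 hh
    obtain ⟨j⟩ := nonempty_tensorPow_iso (n := n) (R := k) t
    obtain ⟨ι, p, hp⟩ := Ample.GG.isGloballyGenerated_of_genAt (hd₁ t (le_max_right _ _))
    let e : tM E (t : ℤ) ≅ _ := tensorIso (Iso.refl E) j
    have hz : IsZero (tM E (t : ℤ)) := by
      rw [IsZero.iff_id_eq_zero]
      refine (@Regularity.isZero_of_epi_free _ _ _ ι (p ≫ e.inv)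
        (epi_comp' hp (IsIso.epi_of_iso e.inv)) (𝟙 _) fun v => ?_)
      have h1 : v = 0 := (Curves.GlobalSections.h0Equiv _).symm.injective (Subsingleton.elim _ _)
      exact h1
    obtain ⟨e'⟩ := Snapper.Twist.exists_stalkEquiv_twist (isInvertible_tw (n := n) (R := k) (t : ℤ)) E x
    refine hx (@Function.Injective.subsingleton _ _ _ e'.symm.injective ?_)
    exact @Function.Injective.subsingleton _ _ _
      (Modules.StalkModule.stalkLinearEquiv (comm (tw n k (t : ℤ)) E) x).injective
      ((Modules.Stalk.isZero_iff_stalk_subsingleton.1 hz) x)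
  | d + 1, E, Q, hE, hQ, hdeg => by
    intro y hy
    obtain ⟨s, hs⟩ := Main.exists_common (isCoh_tensorMod hE (isCoh_tw (-1)))
      (isCoh_tensorMod hE (isCoh_tw (-1))) (isCoh_tensorMod hE (isCoh_tw (-1)))
    have hs' : ∀ x, Curv2.IsAssPoint (tM E (-1)) x → x ∈ CohB1.genLocus (tw n k 1) s :=
      fun x hx => hs x (Or.inl hx)
    have hm := Main.mono_nu s hE hs'
    have hres := suppLT_of_chi d (res s E) (Q - Q.comp (Polynomial.X - Polynomial.C 1))
      (isCoh_res s hE) (fun t => by rw [chi_res hm hE, eval_delta, ← hQ, ← hQ]; push_cast; rfl)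
      (degree_delta hdeg)
    haveI := isProper_st (n := n) (k := k)
    haveI := isNoetherian_proj n k
    haveI : (tM E (-1)).IsQuasicoherent := (isCoh_tensorMod hE (isCoh_tw (-1))).1
    have hst : ∀ (A : (P).Modules) (a : ℤ) (z : P),
        Subsingleton ((tM A a).presheaf.stalk z) ↔ Subsingleton (A.presheaf.stalk z) := fun A a z => by
      obtain ⟨e⟩ := Snapper.Twist.exists_stalkEquiv_twist (isInvertible_tw (n := n) (R := k) a) A z
      exact (Modules.StalkModule.stalkLinearEquiv (comm A (tw n k a)) z).toEquiv.subsingleton_congr.trans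
        e.toEquiv.subsingleton_congr
    obtain ⟨z, hzy, hz⟩ := AssPt.Modules.exists_assPoint_of_stalk_nontrivial (M := tM E (-1))
      (x := y) (by rw [hst]; exact hy)
    have hzE : ¬ Subsingleton (E.presheaf.stalk z) := fun h =>
      AssPt.Modules.nontrivial_stalk_of_assPoint hz ((hst E (-1) z).2 h)
    refine Nat.lt_succ_of_le ((VarDim.Basic.pdim_le (st n k) hzy).trans ?_)
    by_contra hgt
    obtain ⟨x, hzx, hx, hle⟩ := exists_drop s (hs' z hz) (by omega)
    have hxE : ¬ Subsingleton (E.presheaf.stalk x) := fun h =>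
      Modules.Support.not_mem_support_iff.2 h (hzx.mem_closed
        (haveI := hE.2; Modules.Support.isClosed_support E)
        (not_not.1 fun h' => hzE (Modules.Support.not_mem_support_iff.1 h')))
    have : VarDim.Basic.pdim (st n k) x < d := hres x (mem_supp_res hE hm hx hxE)
    omega

/-- Cohomology vanishes from the dimension of the support on. -/
theorem vanish_of_suppLT [Infinite k] : ∀ (d : ℕ) (E : (P).Modules), Coh.IsCoh E → SuppLT E d →
    ∀ (q : ℕ) (t : ℤ), d ≤ q → 1 ≤ q → Subsingleton (Coh.HH P (tM E t) q)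
  | 0, E, _, hsupp, q, t, _, _ => subsingleton_of_isZero (isZero_of_suppLT hsupp) t q
  | d + 1, E, hE, hsupp, q, t, hq, _ => by
    haveI := isNoetherian_proj n k
    obtain ⟨s, hs⟩ := Main.exists_common (isCoh_tensorMod hE (isCoh_tw (-1)))
      (isCoh_tensorMod hE (isCoh_tw (-1))) (isCoh_tensorMod hE (isCoh_tw (-1)))
    have hs' : ∀ x, Curv2.IsAssPoint (tM E (-1)) x → x ∈ CohB1.genLocus (tw n k 1) s :=
      fun x hx => hs x (Or.inl hx)
    have hm := Main.mono_nu s hE hs'
    have hsupp' := suppLT_res hm hE.1 hsupp hs'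
    obtain ⟨q', rfl⟩ : ∃ q', q = q' + 1 := ⟨q - 1, by omega⟩
    obtain ⟨d₀, hd₀⟩ := exists_forall_subsingleton E hE
    have key : ∀ (j : ℕ) (r : ℤ), (d₀ : ℤ) ≤ r + j → Subsingleton (Coh.HH P (tM E r) (q' + 1)) := by
      intro j
      induction j with
      | zero => exact fun r hr => hd₀ r (by simpa using hr) q'
      | succ j ih =>
        intro r hr
        have h1 : Subsingleton (Coh.HH P (tM (res s E) (r + 1)) q') := by
          rcases Nat.eq_zero_or_pos q' with h0 | hpos
          · obtain rfl : d = 0 := by omega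
            exact subsingleton_of_isZero (isZero_of_suppLT hsupp') _ _
          · exact vanish_of_suppLT d _ (isCoh_res s hE) hsupp' q' _ (by omega) hpos
        have := pred_vanish hm h1 (ih (r + 1) (by push_cast at hr; omega))
        rwa [add_sub_cancel_right] at this
    exact key ((d₀ : ℤ) - t).toNat t (by omega)

end Groth.Agent.Lib.UnifReg.Degree
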