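import Groth.Agent.Lib.UnifReg.Apps
import Groth.Agent.Lib.PushClosed.Unit
import Groth.Agent.Lib.BddFam.Regular
import Groth.Prelude.Def_ShStab

/-!
# Uniform regularity on a closed subscheme of `P^n`
-/

set_option autoImplicit false
universe u

open CategoryTheory CategoryTheory.Limits AlgebraicGeometry

noncomputable section

namespace Groth.Agent.Lib.UnifReg.OnX

open Groth.Agent.Lib TensorMod.Basic ProjCoh.Coherent Step Bound Curves.LES ProjKoszul

/-- Pullbacks of globally generated modules are globally generated. -/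
theorem gg_pullback {X Y : Scheme.{u}} (f : X ⟶ Y) {F : Y.Modules}
    (h : Curv2.IsGloballyGenerated F) :
    Curv2.IsGloballyGenerated ((Scheme.Modules.pullback f).obj F) := by
  obtain ⟨α, p, hp⟩ := h
  let F' := Scheme.Modules.pullback f
  haveI : F'.IsLeftAdjoint := (Scheme.Modules.pullbackPushforwardAdjunction f).isLeftAdjoint
  haveI : PreservesColimitsOfSize.{u, u} F' :=
    (Scheme.Modules.pullbackPushforwardAdjunction f).leftAdjoint_preservesColimits
  let A : X.Modules := SheafOfModules.free α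
  let B : Y.Modules := SheafOfModules.free α
  let p' : B ⟶ F := p
  let e : A ≅ F'.obj B :=
    (PreservesCoproduct.iso F' (fun _ : α => Coh.structureModule Y) ≪≫
      Sigma.mapIso fun _ => PicLoc.pullbackStructureIso f).symm
  have hFp : Epi (F'.map p') := @Functor.map_epi _ _ _ _ F' _ _ _ p' hp
  have he : Epi e.hom := IsIso.epi_of_iso _
  exact ⟨α, e.hom ≫ F'.map p', epi_comp' he hFp⟩

theorem gg_iso {X : Scheme.{u}} {A B : X.Modules} (e : A ≅ B)
    (h : Curv2.IsGloballyGenerated A) : Curv2.IsGloballyGenerated B := by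
  obtain ⟨α, p, hp⟩ := h
  exact ⟨α, p ≫ e.hom, epi_comp' hp (IsIso.epi_of_iso e.hom)⟩

theorem gg_epi {X : Scheme.{u}} {A B : X.Modules} (g : A ⟶ B) (hg : Epi g)
    (h : Curv2.IsGloballyGenerated A) : Curv2.IsGloballyGenerated B := by
  obtain ⟨α, p, hp⟩ := h
  exact ⟨α, p ≫ g, epi_comp' hp hg⟩

variable {n : ℕ} {k : Type u} [Field k]

/-- The middle of `0 → A → B → C → 0`: vanishing of `H^i` of the first, by surjectivity at `i = 1`. -/
theorem subsingleton_left {S : ShortComplex (CohB1.ProjSpace n k).Modules} (hS : S.ShortExact)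
    (q : ℕ) (h : Function.Surjective (mapK k S.g q))
    (h2 : Subsingleton (Coh.HH (CohB1.ProjSpace n k) S.X₂ (q + 1))) :
    Subsingleton (Coh.HH (CohB1.ProjSpace n k) S.X₁ (q + 1)) := by
  refine subsingleton_of_forall_eq 0 fun x => ?_
  obtain ⟨y, hy⟩ := (exactK₁ k hS q (q + 1) rfl x).1 (@Subsingleton.elim _ h2 _ _)
  obtain ⟨z, hz⟩ := h y
  rw [← hy, ← hz]
  exact (exactK₃ k hS q (q + 1) rfl _).2 ⟨z, rfl⟩

/-- Surjectivity on `H⁰` when `H¹` of the kernel vanishes. -/
theorem surjective_of_kernel {S : ShortComplex (CohB1.ProjSpace n k).Modules} (hS : S.ShortExact)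
    (h1 : Subsingleton (Coh.HH (CohB1.ProjSpace n k) S.X₁ 1)) :
    Function.Surjective (mapK k S.g 0) := fun y =>
  (exactK₃ k hS 0 (0 + 1) rfl y).1 (@Subsingleton.elim _ h1 _ _)

variable {X : Scheme.{u}} [X.Over (Spec (CommRingCat.of k))] (i : X ⟶ CohB1.ProjSpace n k)
  [IsClosedImmersion i] {L : X.Modules}

omit [X.Over (Spec (CommRingCat.of k))] [IsClosedImmersion i] in
theorem nonempty_pow_iso (hL : Nonempty (L ≅ (Scheme.Modules.pullback i).obj (tw n k 1))) (l : ℕ) :
    Nonempty (CohB1.tensorPow L l ≅ (Scheme.Modules.pullback i).obj (tw n k (l : ℤ))) := by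
  obtain ⟨e⟩ := hL
  obtain ⟨j⟩ := ProjCoh.Coherent.nonempty_tensorPow_iso (n := n) (R := k) l
  exact ⟨Ample.Pow.powIso e l ≪≫ (Ample.Pow.pullbackPow i _ l).symm ≪≫
    (Scheme.Modules.pullback i).mapIso j.symm⟩

omit [X.Over (Spec (CommRingCat.of k))] in
theorem nonempty_push_twist (hL : Nonempty (L ≅ (Scheme.Modules.pullback i).obj (tw n k 1)))
    (F : X.Modules) (l : ℕ) :
    Nonempty ((Coh.push i).obj (ShStab.twist X L F l) ≅
      tM ((Coh.push i).obj F) (l : ℤ)) := by
  obtain ⟨eP⟩ := nonempty_pow_iso i hL l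
  exact ⟨(Coh.push i).mapIso (tensorIso (Iso.refl F) eP ≪≫ comm _ _) ≪≫
    ((Modules.ProjFormula.projIso i (E := tw n k (l : ℤ))
      (Modules.DualBasis.hasDBases_of_isFinLocFree (TensorMod.LocFree.of_rank
        (TensorMod.LocFree.of_isInvertible (isInvertible_tw (l : ℤ)))))).app F).symm ≪≫ comm _ _⟩

/-- Cohomology of the twists on `X` and on `P^n`. -/
theorem nonempty_hh (hi : i ≫ CohB1.ProjSpace.toSpec n k = X ↘ Spec (CommRingCat.of k))
    (hL : Nonempty (L ≅ (Scheme.Modules.pullback i).obj (tw n k 1)))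
    {F : X.Modules} (hF : Coh.IsCoh F) (l q : ℕ) :
    Nonempty (Coh.HH X (ShStab.twist X L F l) q ≃ₗ[k]
      Coh.HH (CohB1.ProjSpace n k) (tM ((Coh.push i).obj F) (l : ℤ)) q) := by
  obtain ⟨e⟩ := nonempty_push_twist i hL F l
  obtain ⟨eP⟩ := nonempty_pow_iso i hL l
  haveI := isNoetherian_proj n k
  have hq : (ShStab.twist X L F l).IsQuasicoherent := by
    obtain ⟨eL⟩ := hL
    have hLi : PicF.IsInvertible L :=
      TensorMod.Invertible.isInvertible_of_iso eL.symm (PicLoc.isInvertible_pullback i (isInvertible_tw 1))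
    exact (CurveBundle.Twist.isCoh (TensorMod.Invertible.isInvertible_tensorPow hLi l) hF).1
  exact ⟨(ZarCoh.Linear.affineLinearEquiv (A := k) i hi (ShStab.twist X L F l) q).symm.trans
    (isoK k e q)⟩

/-- The Euler characteristics agree. -/
theorem euler_twist (hi : i ≫ CohB1.ProjSpace.toSpec n k = X ↘ Spec (CommRingCat.of k))
    (hL : Nonempty (L ≅ (Scheme.Modules.pullback i).obj (tw n k 1)))
    {F : X.Modules} (hF : Coh.IsCoh F) (l : ℕ) :
    Curv2.euler k X (ShStab.twist X L F l) = chi ((Coh.push i).obj F) (l : ℤ) := by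
  haveI := isNoetherian_proj n k
  unfold chi
  rw [← Snapper.Chi.euler_eq_eulerCharLE
    (ProjSpace.Dim.topologicalKrullDim_projSpace_of_field n k).le]
  unfold Curv2.euler
  refine finsum_congr fun q => ?_
  obtain ⟨E⟩ := nonempty_hh i hi hL hF l q
  rw [E.finrank_eq]

/-- **Uniform twist** for quotients of `O_X^N` and their kernels. -/
theorem exists_uniform (hi : i ≫ CohB1.ProjSpace.toSpec n k = X ↘ Spec (CommRingCat.of k))
    (hL : Nonempty (L ≅ (Scheme.Modules.pullback i).obj (tw n k 1))) (N : ℕ) (P : Polynomial ℚ) :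
    ∃ l₀ : ℕ, ∀ (F : X.Modules) (q : FlatMod.freeMod X N ⟶ F),
      Coh.IsCoh F → Epi q → ShStab.IsHilbPoly k X L F P →
        ∀ l : ℕ, l₀ ≤ l →
          (∀ i : ℕ, 0 < i → Subsingleton (Coh.HH X (ShStab.twist X L F l) i)) ∧
          (∀ i : ℕ, 0 < i → Subsingleton (Coh.HH X (ShStab.twist X L (kernel q) l) i)) ∧
          Curv2.IsGloballyGenerated (ShStab.twist X L (kernel q) l) := by
  haveI := isNoetherian_proj n k
  haveI : IsLocallyNoetherian X := LocallyOfFiniteType.isLocallyNoetherian i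
  haveI : CompactSpace X := QuasiCompact.compactSpace_of_compactSpace i
  haveI : IsNoetherian X := ⟨⟩
  have hON : Coh.IsCoh (FlatMod.freeMod X N) := Perfect.Coherent.isCoh_freeMod _ N
  have hON' : Coh.IsCoh ((Coh.push i).obj (FlatMod.freeMod X N)) :=
    Cyc.Dev.SchemeEquiv.isCoh_push i hON
  obtain ⟨d₀, hd₀⟩ := exists_forall_subsingleton _ hON'
  obtain ⟨m, hm⟩ := Apps.exists_reg_kernel.{u} n N P
  refine ⟨max m.toNat d₀, fun F q hF hq hP l hl => ?_⟩
  let Φ := Coh.push i
  haveI : Φ.IsRightAdjoint := (Scheme.Modules.pullbackPushforwardAdjunction i).isRightAdjoint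
  haveI : PreservesColimitsOfSize.{u, u} Φ := PushClosed.Basic.pushforward_preservesColimits i
  let ψ : fr n k N ⟶ Φ.obj (FlatMod.freeMod X N) :=
    (Scheme.Modules.pullbackPushforwardAdjunction i).unit.app (fr n k N) ≫
      Φ.map (TensorMod.LocFree.pullbackFreeModIso i N).hom
  have hψ : Epi ψ := epi_comp' (PushClosed.Unit.epi_unit i _) inferInstance
  have hq' : Epi (Φ.map q) := Φ.map_epi q
  let φ := ψ ≫ Φ.map q
  have hφ : Epi φ := epi_comp' hψ hq'
  have hF' : Coh.IsCoh (Φ.obj F) := Cyc.Dev.SchemeEquiv.isCoh_push i hF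
  have hK : Regularity.Reg (kernel φ) (m.toNat : ℤ) := Regularity.reg_of_le
    (hm k (Φ.obj F) φ hF' hφ fun t => by rw [← euler_twist i hi hL hF t]; exact hP t) (by omega)
  have hR := reg_quot hF' φ hK
  have hKc : Coh.IsCoh (kernel φ) := CohBasics.Closure.isCoh_kernel φ (isCoh_fr N) hF'.1
  have hG : Coh.IsCoh (kernel q) := CohBasics.Closure.isCoh_kernel q hON hF.1
  -- the kernels
  let S : ShortComplex (CohB1.ProjSpace n k).Modules :=
    ShortComplex.mk (kernel.ι (Φ.map q)) (Φ.map q) (kernel.condition _)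
  have hS : S.ShortExact := { exact := ShortComplex.exact_kernel _ }
  let eK : Φ.obj (kernel q) ≅ kernel (Φ.map q) := PreservesKernel.iso Φ q
  let c : kernel φ ⟶ kernel (Φ.map q) :=
    kernel.lift _ (kernel.ι φ ≫ ψ) (by rw [Category.assoc]; exact kernel.condition φ)
  have hc : Epi c := by
    haveI := hψ
    haveI hπ : Epi (pullback.snd ψ (kernel.ι (Φ.map q))) := inferInstance
    let g : pullback ψ (kernel.ι (Φ.map q)) ⟶ kernel φ := kernel.lift φ (pullback.fst _ _)
      (by rw [← Category.assoc, pullback.condition, Category.assoc, kernel.condition, comp_zero])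
    have hgc : g ≫ c = pullback.snd ψ (kernel.ι (Φ.map q)) :=
      (cancel_mono (kernel.ι (Φ.map q))).1 (by simp [g, c, pullback.condition])
    have : Epi (g ≫ c) := hgc ▸ hπ
    exact epi_of_epi g c
  have hlm : (m.toNat : ℤ) ≤ (l : ℤ) := by omega
  have hF1 : ∀ j : ℕ, 0 < j → Subsingleton (Coh.HH (CohB1.ProjSpace n k) (tM (Φ.obj F) (l : ℤ)) j) :=
    fun j hj => Regularity.subsingleton_of_le hR hj (by omega)
  have hvan : ∀ j : ℕ, 0 < j → Subsingleton (Coh.HH X (ShStab.twist X L F l) j) := fun j hj => by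
    obtain ⟨E⟩ := nonempty_hh i hi hL hF l j
    exact @Equiv.subsingleton _ _ E.toEquiv (hF1 j hj)
  refine ⟨hvan, fun j hj => ?_, ?_⟩
  · obtain ⟨j', rfl⟩ : ∃ j', j = j' + 1 := ⟨j - 1, by omega⟩
    obtain ⟨E⟩ := nonempty_hh i hi hL hG l (j' + 1)
    refine @Equiv.subsingleton _ _ E.toEquiv ?_
    refine Chase.subsingleton_of_iso k (tensorIso eK.symm (Iso.refl (tw n k (l : ℤ)))) ?_
    refine subsingleton_left (shortExact_tw hS (l : ℤ)) j' ?_ (hd₀ (l : ℤ) (by omega) j')
    rcases Nat.eq_zero_or_pos j' with rfl | hj'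
    · have hSφ : (ShortComplex.mk (kernel.ι φ) φ (kernel.condition φ)).ShortExact :=
        { exact := ShortComplex.exact_kernel φ }
      have hs := surjective_of_kernel (shortExact_tw hSφ (l : ℤ))
        (Regularity.subsingleton_of_le hK (le_refl 1) (by omega))
      intro y
      obtain ⟨x, hx⟩ := hs y
      refine ⟨mapK k ((tensorBy (tw n k (l : ℤ))).map ψ) 0 x, ?_⟩
      rw [← hx]
      change (mapK k ((tensorBy (tw n k (l : ℤ))).map (Φ.map q)) 0 ∘ₗ
        mapK k ((tensorBy (tw n k (l : ℤ))).map ψ) 0) x = _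
      rw [← mapK_comp, ← Functor.map_comp]
      rfl
    · exact fun y => ⟨0, @Subsingleton.elim _ (hF1 j' hj') _ _⟩
  · have h1 := Regularity.isGloballyGenerated_of_le hKc hK hlm
    have h2 : Curv2.IsGloballyGenerated (tM (Φ.obj (kernel q)) (l : ℤ)) :=
      gg_iso (tensorIso eK.symm (Iso.refl (tw n k (l : ℤ))))
        (gg_epi ((tensorBy (tw n k (l : ℤ))).map c) ((tensorBy _).map_epi c) h1)
    obtain ⟨e⟩ := nonempty_push_twist i hL (kernel q) l
    haveI := Cyc.Dev.SchemeCase.isIso_counit i (ShStab.twist X L (kernel q) l)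
    exact gg_iso (asIso ((Scheme.Modules.pullbackPushforwardAdjunction i).counit.app
      (ShStab.twist X L (kernel q) l))) (gg_pullback i (gg_iso e.symm h2))

end Groth.Agent.Lib.UnifReg.OnX
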