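import Groth.Agent.Lib.UnifReg.Bound
import Groth.Agent.Lib.BddFam.Regular
import Mathlib.Algebra.MvPolynomial.Eval
import Mathlib.RingTheory.Binomial

/-!
# Uniform regularity: applications

* `exists_mvPoly`: Mumford's polynomial.
* `exists_reg_kernel`: kernels of quotients with a fixed Hilbert polynomial.
* `isBounded_quotients`: quotients with finitely many Hilbert functions are bounded.
-/

set_option autoImplicit false
universe u

open CategoryTheory CategoryTheory.Limits AlgebraicGeometry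

noncomputable section

namespace Groth.Agent.Lib.UnifReg.Apps

open Groth.Agent.Lib TensorMod.Basic ProjCoh.Coherent Step Bound ProjKoszul

/-- `|Σ aⱼ C(t, j)| ≤ (Σ aⱼ²) (t+1)^n`. -/
theorem abs_sum_choose_le (n : ℕ) (a : Fin (n + 1) → ℤ) (t : ℕ) :
    |∑ j, a j * Ring.choose (t : ℤ) (j : ℕ)| ≤
      (((∑ j, (a j).natAbs ^ 2) * (t + 1) ^ n : ℕ) : ℤ) := by
  refine (Finset.abs_sum_le_sum_abs _ _).trans ?_
  rw [Finset.sum_mul, Nat.cast_sum]
  refine Finset.sum_le_sum fun j _ => ?_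
  rw [Ring.choose_natCast, abs_mul, Nat.abs_cast, Nat.cast_mul, ← Int.natCast_natAbs]
  refine mul_le_mul ?_ ?_ (by positivity) (by positivity)
  · exact Int.ofNat_le.2 (Nat.le_self_pow two_ne_zero _)
  · exact Int.ofNat_le.2 ((Nat.choose_le_pow t j).trans ((Nat.pow_le_pow_left (by omega) _).trans
      (Nat.pow_le_pow_right (by omega) (by omega))))

/-- Mumford's polynomial. -/
theorem exists_mvPoly (p n : ℕ) : ∃ P : MvPolynomial (Fin (n + 1)) ℤ, ∀ (k : Type u) [Field k]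
    (F : (CohB1.ProjSpace n k).Modules), Coh.IsCoh F →
      ∀ ι : F ⟶ fr n k p, Mono ι → ∀ a : Fin (n + 1) → ℤ,
        (∀ t : ℕ, chi F t = ∑ j, a j * Ring.choose (t : ℤ) (j : ℕ)) →
          Regularity.Reg F (MvPolynomial.eval a P) := by
  obtain ⟨q, hq⟩ := exists_poly p n (n + 1) 0
  refine ⟨q.eval₂ (Nat.castRingHom _) (∑ j, MvPolynomial.X j ^ 2), fun k _ F hF ι hι a ha => ?_⟩
  have h := @reg_sub n k _ p F hF ι hι (fun t => (∑ j, (a j).natAbs ^ 2) * (t + 1) ^ n)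
    (fun x y hxy => Nat.mul_le_mul_left _ (Nat.pow_le_pow_left (by omega) _))
    fun t => (ha t).symm ▸ abs_sum_choose_le n a t
  have e : MvPolynomial.eval a (q.eval₂ (Nat.castRingHom _) (∑ j, MvPolynomial.X j ^ 2)) =
      ((bd p n fun t => (∑ j, (a j).natAbs ^ 2) * (t + 1) ^ n : ℕ) : ℤ) := by
    rw [Polynomial.hom_eval₂, bd, ← hq,
      show (MvPolynomial.eval a).comp (Nat.castRingHom _) = Nat.castRingHom ℤ from Subsingleton.elim _ _]
    simp only [map_sum, map_pow, MvPolynomial.eval_X]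
    rw [show (∑ x, a x ^ 2 : ℤ) = Nat.castRingHom ℤ (∑ x, (a x).natAbs ^ 2) by simp [sq_abs],
      Polynomial.eval₂_at_apply]
    rfl
  rw [e]
  exact h

/-- Kernels of quotients of `O^r` with Hilbert polynomial `P`. -/
theorem exists_reg_kernel (n r : ℕ) (P : Polynomial ℚ) :
    ∃ m : ℤ, ∀ (k : Type u) [Field k] (F : (CohB1.ProjSpace n k).Modules) (φ : fr n k r ⟶ F),
      Coh.IsCoh F → Epi φ → (∀ t : ℕ, (chi F t : ℚ) = P.eval (t : ℚ)) →
        Regularity.Reg (kernel φ) m := by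
  let b : ℕ → ℕ := fun t => ∑ i ∈ Finset.range (t + 1), ⌈|P.eval (i : ℚ)|⌉.toNat
  refine ⟨bd r n fun t => r * (t + 1) ^ (n + 1) + b t, fun k _ F φ hF hφ hP => ?_⟩
  refine reg_kernel hF φ b (fun x y hxy => Finset.sum_le_sum_of_subset
    (Finset.range_subset_range.2 (by omega))) fun t => ?_
  have h1 : |chi F t| ≤ (⌈|P.eval (t : ℚ)|⌉.toNat : ℤ) := by
    refine le_trans ?_ (Int.self_le_toNat _)
    rw [← hP t, ← Int.cast_abs, Int.ceil_intCast]
  exact h1.trans (Int.ofNat_le.2 (Finset.single_le_sum (f := fun i : ℕ => ⌈|P.eval (i : ℚ)|⌉.toNat)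
    (fun _ _ => Nat.zero_le _) (Finset.self_mem_range_succ t)))

variable {n : ℕ} {k : Type u} [Field k]

/-- `h⁰ = χ` past the regularity. -/
theorem hd_eq_chi {F : (CohB1.ProjSpace n k).Modules} {m : ℤ} (h : Regularity.Reg F m) {t : ℤ}
    (ht : m ≤ t) : (hd F t : ℤ) = chi F t := by
  unfold chi FGA.eulerCharLE
  rw [Finset.sum_eq_single 0 (fun q _ hq => ?_) (by simp)]
  · simp [hd, Curves.Euler.hdim]
  · have := Regularity.subsingleton_of_le h (i := q) (r := t) (by omega) (by omega)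
    simp [Module.finrank_zero_of_subsingleton]

/-- A quotient of `O^r(b)` gives one of `O^r` after a twist. -/
theorem exists_epi_free {r : ℕ} {M : (CohB1.ProjSpace n k).Modules} (a b : ℤ) (h : b + a = 0)
    (ψ : tM (fr n k r) b ⟶ M) (hψ : Epi ψ) : ∃ φ : fr n k r ⟶ tM M a, Epi φ := by
  let e0 : fr n k r ≅ tM (tM (fr n k r) b) a :=
    (rightUnit _).symm ≪≫ tensorIso (Iso.refl _) twZero.symm ≪≫ (twIso2 (fr n k r) b a 0 h).symm
  let g : tM (tM (fr n k r) b) a ⟶ tM M a := tmap ψ (𝟙 (tw n k a))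
  have hg : Epi g := (tensorBy (tw n k a)).map_epi ψ
  exact ⟨e0.hom ≫ g, epi_comp' (IsIso.epi_of_iso e0.hom) hg⟩

/-- Quotients with finitely many Hilbert functions are bounded. -/
theorem isBounded_quotients (E : (CohB1.ProjSpace n k).Modules) (hE : Coh.IsCoh E) (Φ : Set (ℤ → ℤ))
    (hΦ : Φ.Finite) :
    Pic13.IsBounded k (CohB1.ProjSpace n k) (fun F =>
      Coh.IsCoh F ∧ (∃ p : E ⟶ F, Epi p) ∧ (fun r : ℤ => chi F r) ∈ Φ) := by
  obtain ⟨r, a, π, hπ⟩ := ProjCoh.Coherent.exists_epi E hE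
  obtain ⟨i⟩ := nonempty_freeMod_tensor (n := n) (R := k) r (-(a : ℤ))
  let b : ℕ → ℕ := fun t => ∑ f ∈ hΦ.toFinset, ∑ j ∈ Finset.range (t + 1), (f ((j : ℤ) + a)).natAbs
  set m₀ := bd r n fun t => r * (t + 1) ^ (n + 1) + b t
  refine BddFam.Presented.mono k (fun F ⟨hF, ⟨q, hq⟩, hmem⟩ => ?_)
    (BddFam.Regular.isBounded_reg (n := n) (k := k) ((m₀ : ℤ) + a)
      (∑ f ∈ hΦ.toFinset, (f ((m₀ : ℤ) + a)).natAbs))
  let F' := tM F (a : ℤ)
  have hF' : Coh.IsCoh F' := isCoh_tensorMod hF (isCoh_tw _)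
  obtain ⟨φ, hφ⟩ := exists_epi_free (M := F) (a : ℤ) (-(a : ℤ)) (by ring) (i.hom ≫ π ≫ q)
    (epi_comp' inferInstance (epi_comp' hπ hq))
  have hiso : ∀ t : ℤ, Nonempty (tM F' t ≅ tM F (t + a)) := fun t =>
    ⟨twIso2 F (a : ℤ) t (t + a) (add_comm _ _)⟩
  have hchi : ∀ t : ℤ, chi F' t = chi F (t + a) := fun t => by
    obtain ⟨e⟩ := hiso t
    exact Snapper.Chi.eulerCharLE_of_iso e n
  have hb : Monotone b := fun x y hxy => Finset.sum_le_sum fun f _ =>
    Finset.sum_le_sum_of_subset (Finset.range_subset_range.2 (by omega))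
  have hK := reg_kernel hF' φ b hb fun t => by
    rw [hchi, Int.abs_eq_natAbs]
    refine Int.ofNat_le.2 (le_trans ?_ (Finset.single_le_sum
      (f := fun f : ℤ → ℤ => ∑ j ∈ Finset.range (t + 1), (f ((j : ℤ) + a)).natAbs)
      (fun _ _ => Nat.zero_le _) (hΦ.mem_toFinset.2 hmem)))
    exact Finset.single_le_sum (f := fun j : ℕ => (chi F ((j : ℤ) + a)).natAbs)
      (fun _ _ => Nat.zero_le _) (Finset.self_mem_range_succ t)
  have hR' := reg_quot hF' φ hK
  have hR : Regularity.Reg F ((m₀ : ℤ) + a) := fun j hj => by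
    obtain ⟨e⟩ := hiso ((m₀ : ℤ) - j)
    have h := Chase.subsingleton_of_iso k e (hR' j hj)
    rwa [show (m₀ : ℤ) - j + a = (m₀ : ℤ) + a - j by ring] at h
  refine ⟨hF, hR, ?_⟩
  have h1 := hd_eq_chi hR (le_refl _)
  have h2 : (chi F ((m₀ : ℤ) + a)).natAbs ≤ ∑ f ∈ hΦ.toFinset, (f ((m₀ : ℤ) + a)).natAbs :=
    Finset.single_le_sum (f := fun f : ℤ → ℤ => (f ((m₀ : ℤ) + a)).natAbs)
      (fun _ _ => Nat.zero_le _) (hΦ.mem_toFinset.2 hmem)
  rw [← h1, Int.natAbs_natCast] at h2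
  exact h2

end Groth.Agent.Lib.UnifReg.Apps
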