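import Groth.Agent.Lib.UnifReg.Main
import Groth.Agent.Lib.Curves.BaseChange
import Groth.Agent.Lib.ProjSpace.BaseChange
import Groth.Agent.Lib.ProperFin.ProjFacts
import Groth.Agent.Lib.ProjCoh.GlobalFun
import Groth.Agent.Lib.Cyc.C1K.Pull
import Groth.Agent.Lib.TensorMod.LocFree

/-!
# The uniform bound over every field

Base change to an algebraic closure keeps `h^q(M(t))`, so the bound for subsheaves of free modules
holds over any field.
-/

set_option autoImplicit false
universe u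

open CategoryTheory CategoryTheory.Limits AlgebraicGeometry TopologicalSpace Opposite

noncomputable section

namespace Groth.Agent.Lib.UnifReg.Bound

open Groth.Agent.Lib TensorMod.Basic ProjCoh.Coherent Curves.LES Step Main ProjKoszul

/-- The regularity of a subsheaf of `O^p` on `P^n`. -/
def bd (p n : ℕ) (b : ℕ → ℕ) : ℕ := mb p (n + 1) b 0

section Free

variable {n : ℕ} {k : Type u} [Field k]

local notation "P" => CohB1.ProjSpace n k

/-- `O^p`. -/
abbrev fr (n : ℕ) (k : Type u) [Field k] (p : ℕ) : (CohB1.ProjSpace n k).Modules :=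
  FlatMod.freeMod (CohB1.ProjSpace n k) p

theorem isCoh_fr (p : ℕ) : Coh.IsCoh (fr n k p) :=
  haveI := isNoetherian_proj n k
  Perfect.Coherent.isCoh_freeMod _ p

theorem fr_vanish (p : ℕ) {d : ℤ} (hd : -(n : ℤ) ≤ d) {q : ℕ} (hq : q ≠ 0) :
    Subsingleton (Coh.HH P (tM (fr n k p) d) q) := by
  obtain ⟨e⟩ := nonempty_freeMod_tensor (n := n) (R := k) p d
  exact Chase.subsingleton_of_iso k e.symm
    (subsingleton_HH_sumTS p (ProjCoh.Twist.subsingleton_HH_of_neg_le n k hd hq))

theorem reg_fr (p : ℕ) : Regularity.Reg (fr n k p) 0 := fun i hi => by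
  by_cases h : n < i
  · haveI : (tM (fr n k p) (0 - i)).IsQuasicoherent := (isCoh_tensorMod (isCoh_fr p) (isCoh_tw _)).1
    exact ProjCoh.Twist.subsingleton_HH_of_lt _ h
  · exact fr_vanish p (by omega) (by omega)

theorem hd_fr_zero (p : ℕ) : hd (fr n k p) 0 ≤ p := by
  let O := Coh.structureModule P
  let one : Coh.HH P O 0 := (Curves.GlobalSections.h0Equiv O).symm (1 : Γ(P, ⊤))
  have hs : Function.Surjective (LinearMap.toSpanSingleton k _ one) := fun x => by
    obtain ⟨r, hr⟩ := (ProjCoh.GlobalFun.toGlobal_bijective n k).2 (Curves.GlobalSections.h0Equiv O x)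
    refine ⟨r, (Curves.GlobalSections.h0Equiv O).injective ?_⟩
    rw [LinearMap.toSpanSingleton_apply]
    refine (Curves.GlobalSections.h0Equiv_smul O _ one).trans ?_
    refine (congrArg (_ • ·) ((Curves.GlobalSections.h0Equiv O).apply_symm_apply (1 : Γ(P, ⊤)))).trans ?_
    exact (mul_one _).trans hr
  have h1 : Module.finrank k (Coh.HH P O 0) ≤ 1 :=
    (LinearMap.finrank_le_finrank_of_surjective hs).trans (Module.finrank_self k).le
  haveI : Module.Finite k (Coh.HH P O 0) := Module.Finite.of_surjective _ hs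
  obtain ⟨f, hf⟩ := sigma_surj (A := k) O p 0
  have h2 := LinearMap.finrank_le_finrank_of_surjective hf
  rw [Module.finrank_pi_fintype, Finset.sum_const, Finset.card_univ, Fintype.card_fin,
    smul_eq_mul] at h2
  have e := (isoK k (tensorIso (Iso.refl (fr n k p)) (twZero (n := n) (R := k)) ≪≫ rightUnit _) 0).finrank_eq
  unfold hd Curves.Euler.hdim
  rw [e]
  exact h2.trans (le_of_le_of_eq (Nat.mul_le_mul_left p h1) (mul_one p))

theorem chi_fr (p : ℕ) (t : ℕ) : chi (fr n k p) t = hd (fr n k p) t := by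
  unfold chi FGA.eulerCharLE
  rw [Finset.sum_eq_single 0 (fun q _ hq => ?_) (by simp)]
  · simp [hd, Curves.Euler.hdim]
  · have := fr_vanish (n := n) (k := k) p (d := (t : ℤ)) (by omega) hq
    simp [Module.finrank_zero_of_subsingleton]

theorem chi_add {S : ShortComplex (P).Modules} (hS : S.ShortExact) (h1 : Coh.IsCoh S.X₁)
    (h2 : Coh.IsCoh S.X₂) (h3 : Coh.IsCoh S.X₃) (t : ℤ) :
    chi S.X₂ t = chi S.X₁ t + chi S.X₃ t := by
  haveI := isNoetherian_proj n k
  haveI : IsProper (CohB1.ProjSpace n k ↘ Spec (CommRingCat.of k)) :=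
    ProjSpace.Basic.isProper_toSpec n k
  have c1 : Coh.IsCoh (S.map (tensorBy (tw n k t))).X₁ := isCoh_tensorMod h1 (isCoh_tw t)
  have c2 : Coh.IsCoh (S.map (tensorBy (tw n k t))).X₂ := isCoh_tensorMod h2 (isCoh_tw t)
  have c3 : Coh.IsCoh (S.map (tensorBy (tw n k t))).X₃ := isCoh_tensorMod h3 (isCoh_tw t)
  have h := Snapper.Chi.eulerCharLE_add (X := P) (Snapper.Finite.cohFinite k P) (d := n)
    (ProjSpace.Dim.topologicalKrullDim_projSpace_of_field n k).le
    (S := S.map (tensorBy (tw n k t))) (shortExact_tw hS t) c1 c2 c3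
  exact h

end Free

section Ext

variable (n : ℕ) (k K : Type u) [Field k] [Field K] [Algebra k K]

/-- `P^n_K ⟶ P^n_k`. -/
abbrev gK : CohB1.ProjSpace n K ⟶ CohB1.ProjSpace n k :=
  ProjSpace.BaseChange.projMap n (algebraMap k K)

theorem isPullback_gK : IsPullback (gK n k K) (CohB1.ProjSpace n K ↘ Spec (CommRingCat.of K))
    (CohB1.ProjSpace n k ↘ Spec (CommRingCat.of k))
    (Spec.map (CommRingCat.ofHom (algebraMap k K))) :=
  ProjSpace.BaseChange.isPullback_projMap n (algebraMap k K)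

theorem flat_gK : Flat (gK n k K) :=
  MorphismProperty.of_isPullback (isPullback_gK n k K).flip
    ((HasRingHomProperty.Spec_iff (P := @Flat)).2 (RingHom.flat_algebraMap_iff.2 inferInstance))

theorem nonempty_pb_tw (d : ℤ) :
    Nonempty ((Scheme.Modules.pullback (gK n k K)).obj (tw n k d) ≅ tw n K d) := by
  rcases Int.eq_nat_or_neg d with ⟨m, rfl | rfl⟩
  · exact ProperFin.ProjFacts.nonempty_pullback_O n k K (algebraMap k K) m
  · obtain ⟨e⟩ := ProperFin.ProjFacts.nonempty_pullback_O n k K (algebraMap k K) m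
    let F := Scheme.Modules.pullback (gK n k K)
    let c : CohB1.tensorMod (F.obj (tw n k (-(m : ℤ)))) (tw n K (m : ℤ)) ≅
        Coh.structureModule (CohB1.ProjSpace n K) :=
      tensorIso (Iso.refl _) e.symm ≪≫ (TensorMod.Pullback.pullbackTensorIso (gK n k K) _ _).symm ≪≫
        F.mapIso (twCancel (-(m : ℤ)) (m : ℤ) (by ring)) ≪≫ PicLoc.pullbackStructureIso (gK n k K)
    exact ⟨(rightUnit _).symm ≪≫
      tensorIso (Iso.refl _) (twCancel (n := n) (R := K) (m : ℤ) (-(m : ℤ)) (by ring)).symm ≪≫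
      (assoc _ _ _).symm ≪≫ tensorIso c (Iso.refl _) ≪≫ leftUnit _⟩

variable {n k}

theorem finrank_pb {M : (CohB1.ProjSpace n k).Modules} (hM : Coh.IsCoh M) (t : ℤ) (q : ℕ) :
    Module.finrank K (Coh.HH (CohB1.ProjSpace n K)
        (tM ((Scheme.Modules.pullback (gK n k K)).obj M) t) q) =
      Module.finrank k (Coh.HH (CohB1.ProjSpace n k) (tM M t) q) := by
  haveI := isNoetherian_proj n k
  haveI : (tM M t).IsQuasicoherent := (isCoh_tensorMod hM (isCoh_tw t)).1
  obtain ⟨e⟩ := nonempty_pb_tw n k K t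
  rw [← Curves.BaseChange.finrank_HH (isPullback_gK n k K) (tM M t) q]
  exact (isoK K (TensorMod.Pullback.pullbackTensorIso (gK n k K) M (tw n k t) ≪≫
    tensorIso (Iso.refl _) e) q).finrank_eq.symm

theorem chi_pb {M : (CohB1.ProjSpace n k).Modules} (hM : Coh.IsCoh M) (t : ℤ) :
    chi ((Scheme.Modules.pullback (gK n k K)).obj M) t = chi M t := by
  unfold chi FGA.eulerCharLE
  exact Finset.sum_congr rfl fun q _ => by rw [finrank_pb K hM t q]

theorem isCoh_pb {M : (CohB1.ProjSpace n k).Modules} (hM : Coh.IsCoh M) :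
    Coh.IsCoh ((Scheme.Modules.pullback (gK n k K)).obj M) :=
  haveI := isNoetherian_proj n k
  haveI := isNoetherian_proj n K
  haveI := flat_gK n k K
  Cyc.FP.Stalk.isCoh_pullback (gK n k K) hM

theorem reg_of_pb {M : (CohB1.ProjSpace n k).Modules} (hM : Coh.IsCoh M) {m : ℤ}
    (h : Regularity.Reg ((Scheme.Modules.pullback (gK n k K)).obj M) m) : Regularity.Reg M m := by
  intro i hi
  haveI := fin_tM hM (m - i) i
  haveI := h i hi
  exact Module.finrank_zero_iff.1
    ((finrank_pb K hM (m - i) i).symm.trans Module.finrank_zero_of_subsingleton)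

end Ext

variable {n : ℕ} {k : Type u} [Field k]

/-- **The uniform bound**: subsheaves of `O^p`. -/
theorem reg_sub {p : ℕ} {M : (CohB1.ProjSpace n k).Modules} (hM : Coh.IsCoh M)
    (ι : M ⟶ fr n k p) [Mono ι] (b : ℕ → ℕ) (hb : Monotone b)
    (hchi : ∀ t : ℕ, |chi M t| ≤ (b t : ℤ)) : Regularity.Reg M (bd p n b) := by
  let K := AlgebraicClosure k
  haveI := flat_gK n k K
  refine reg_of_pb K hM ?_
  let e := TensorMod.LocFree.pullbackFreeModIso (gK n k K) p
  have hm : Mono ((Scheme.Modules.pullback (gK n k K)).map ι) := Cyc.FP.Stalk.mono_pullback _ ι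
  exact reg_of_mono p (n + 1) (fr n K p) _
    ((Scheme.Modules.pullback (gK n k K)).map ι ≫ e.hom) (mono_comp' hm inferInstance)
    (isCoh_fr p) (isCoh_pb K hM) (suppLT_top _) (reg_fr p) (hd_fr_zero p) b 0 hb
    fun t _ => by rw [chi_pb K hM]; exact hchi t

/-- `χ(O^p(t)) ≤ p (t+1)^(n+1)`. -/
theorem chi_fr_le (p t : ℕ) : |chi (fr n k p) t| ≤ ((p * (t + 1) ^ (n + 1) : ℕ) : ℤ) := by
  let K := AlgebraicClosure k
  rw [← chi_pb K (isCoh_fr p),
    show chi ((Scheme.Modules.pullback (gK n k K)).obj (fr n k p)) t = chi (fr n K p) t from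
      Snapper.Chi.eulerCharLE_of_iso (tensorIso (TensorMod.LocFree.pullbackFreeModIso (gK n k K) p)
        (Iso.refl (tw n K (t : ℤ)))) n,
    chi_fr, Nat.abs_cast]
  exact Int.ofNat_le.2 ((hd_le_of_reg (n + 1) _ (isCoh_fr p) (suppLT_top _) (reg_fr p) t).trans
    (Nat.mul_le_mul_right _ (hd_fr_zero p)))

/-- The kernel of a quotient of `O^p`. -/
theorem reg_kernel {p : ℕ} {F : (CohB1.ProjSpace n k).Modules} (hF : Coh.IsCoh F) (φ : fr n k p ⟶ F)
    [Epi φ] (b : ℕ → ℕ) (hb : Monotone b) (hchi : ∀ t : ℕ, |chi F t| ≤ (b t : ℤ)) :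
    Regularity.Reg (kernel φ) (bd p n fun t => p * (t + 1) ^ (n + 1) + b t) := by
  haveI := isNoetherian_proj n k
  have hK := CohBasics.Closure.isCoh_kernel φ (isCoh_fr p) hF.1
  refine reg_sub hK (kernel.ι φ) _
    (Monotone.add (fun a c h => Nat.mul_le_mul_left p (Nat.pow_le_pow_left (by omega) _)) hb)
    fun t => ?_
  have hS : (ShortComplex.mk (kernel.ι φ) φ (kernel.condition φ)).ShortExact :=
    { exact := ShortComplex.exact_kernel φ }
  have h1 := chi_add hS hK (isCoh_fr p) hF (t : ℤ)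
  change chi (fr n k p) t = chi (kernel φ) t + chi F t at h1
  have h2 := abs_le.1 (chi_fr_le (n := n) (k := k) p t)
  have h3 := abs_le.1 (hchi t)
  rw [abs_le]
  push_cast at h2 h3 ⊢
  omega

/-- A quotient of `O^p` is as regular as the kernel, less one. -/
theorem reg_quot {p : ℕ} {F : (CohB1.ProjSpace n k).Modules} (hF : Coh.IsCoh F) (φ : fr n k p ⟶ F)
    [Epi φ] {m : ℕ} (h : Regularity.Reg (kernel φ) m) : Regularity.Reg F (m : ℤ) := by
  haveI := isNoetherian_proj n k
  intro i hi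
  have hS : (ShortComplex.mk (kernel.ι φ) φ (kernel.condition φ)).ShortExact :=
    { exact := ShortComplex.exact_kernel φ }
  have hSt := shortExact_tw hS ((m : ℤ) - i)
  by_cases hin : n < i
  · haveI : (tM F ((m : ℤ) - i)).IsQuasicoherent := (isCoh_tensorMod hF (isCoh_tw _)).1
    exact ProjCoh.Twist.subsingleton_HH_of_lt _ hin
  have h1 : Subsingleton (Coh.HH (CohB1.ProjSpace n k) (tM (fr n k p) ((m : ℤ) - i)) i) :=
    fr_vanish p (by omega) (by omega)
  have h2 : Subsingleton (Coh.HH (CohB1.ProjSpace n k) (tM (kernel φ) ((m : ℤ) - i)) (i + 1)) :=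
    Regularity.subsingleton_of_le h (by omega) (by push_cast; omega)
  refine subsingleton_of_forall_eq 0 fun x => ?_
  obtain ⟨y, hy⟩ := (exactK₃ k hSt i (i + 1) rfl x).1 (@Subsingleton.elim _ h2 _ _)
  rw [← hy, show y = 0 from @Subsingleton.elim _ h1 _ _, map_zero]
  rfl

/-- The bound is polynomial in `A` for `b t = A (t+1)^e`. -/
theorem exists_poly (c e : ℕ) : ∀ d N : ℕ, ∃ q : Polynomial ℕ, ∀ A : ℕ,
    q.eval A = mb c d (fun t => A * (t + 1) ^ e) N
  | 0, N => ⟨0, fun A => by simp [mb]⟩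
  | d + 1, N => by
    obtain ⟨q, hq⟩ := exists_poly c e d (N + 1)
    let m1 : Polynomial ℕ := q.comp (Polynomial.C 2 * Polynomial.X) + Polynomial.C (N + 1)
    refine ⟨m1 + Polynomial.C c * (m1 + 1) ^ (d + 1) + Polynomial.X * (m1 + 1) ^ e, fun A => ?_⟩
    have h := hq (2 * A)
    simp only [mul_assoc] at h
    simp only [mb, m1, Polynomial.eval_add, Polynomial.eval_mul, Polynomial.eval_pow,
      Polynomial.eval_C, Polynomial.eval_one, Polynomial.eval_X, Polynomial.eval_comp, h, add_assoc]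

end Groth.Agent.Lib.UnifReg.Bound
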