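import Groth.Agent.Lib.UnifReg.Step

/-!
# Mumford's uniform regularity bound, over an infinite field

A coherent submodule `K` of a `0`-regular `E` with `h⁰(E) ≤ c` is `mb`-regular, `mb` computed from
`c` and a bound of `t ↦ χ(K(t))`.
-/

set_option autoImplicit false
universe u

open CategoryTheory CategoryTheory.Limits AlgebraicGeometry TopologicalSpace Opposite

noncomputable section

namespace Groth.Agent.Lib.UnifReg.Main

open Groth.Agent.Lib TensorMod.Basic ProjCoh.Coherent Curves.LES Hyperplane Step ProjKoszul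

/-- The bound, from a monotone bound `b` of `t ↦ |χ(K(t))|`. -/
def mb (c : ℕ) : ℕ → (ℕ → ℕ) → ℕ → ℕ
  | 0, _, _ => 0
  | d + 1, b, N =>
    let m1 := mb c d (fun t => 2 * b t) (N + 1) + N + 1
    m1 + c * (m1 + 1) ^ (d + 1) + b m1

variable {n : ℕ} {k : Type u} [Field k]

local notation "P" => CohB1.ProjSpace n k

/-- Finitely many coherent modules admit a common linear form. -/
theorem exists_common [Infinite k] {A B C : (P).Modules} (hA : Coh.IsCoh A) (hB : Coh.IsCoh B)
    (hC : Coh.IsCoh C) : ∃ s : Coh.structureModule P ⟶ tw n k 1,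
      ∀ x, Curv2.IsAssPoint A x ∨ Curv2.IsAssPoint B x ∨ Curv2.IsAssPoint C x →
        x ∈ CohB1.genLocus (tw n k 1) s := by
  haveI := isNoetherian_proj n k
  obtain ⟨s, hs⟩ := exists_section (n := n) (k := k)
    ((finite_assPoints hA).union ((finite_assPoints hB).union (finite_assPoints hC)))
  exact ⟨s, fun x hx => hs x (by simpa using hx)⟩

theorem mono_nu (s : Coh.structureModule P ⟶ tw n k 1) {M : (P).Modules} (hM : Coh.IsCoh M)
    (h : ∀ x, Curv2.IsAssPoint (tM M (-1)) x → x ∈ CohB1.genLocus (tw n k 1) s) : Mono (nu s M) :=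
  mono_mulS s (isCoh_tensorMod hM (isCoh_tw (-1))).1 h

theorem reg_res {s : Coh.structureModule P ⟶ tw n k 1} {E : (P).Modules} (hm : Mono (nu s E))
    (hE : Regularity.Reg E 0) : Regularity.Reg (res s E) 0 := fun i hi =>
  res_vanish hm (hE i hi)
    (Regularity.subsingleton_of_le hE (i := i + 1) (r := 0 - (i : ℤ) - 1) (by omega) (by omega))

/-- `h⁰` of a regular module grows at most like `(t+1)^d`. -/
theorem hd_le_of_reg [Infinite k] : ∀ (d : ℕ) (E : (P).Modules), Coh.IsCoh E → SuppLT E d →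
    Regularity.Reg E 0 → ∀ t : ℕ, hd E t ≤ hd E 0 * (t + 1) ^ d
  | 0, E, _, hsupp, _, t => by
    have := subsingleton_of_isZero (isZero_of_suppLT hsupp) (t : ℤ) 0
    simp [hd, Curves.Euler.hdim, Module.finrank_zero_of_subsingleton]
  | d + 1, E, hE, hsupp, hreg, t => by
    have hE1 : Coh.IsCoh (tM E (-1)) := isCoh_tensorMod hE (isCoh_tw (-1))
    obtain ⟨s, hs⟩ := exists_common hE1 hE1 hE1
    have hs' : ∀ x, Curv2.IsAssPoint (tM E (-1)) x → x ∈ CohB1.genLocus (tw n k 1) s :=
      fun x hx => hs x (Or.inl hx)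
    have hm := mono_nu s hE hs'
    have ih := hd_le_of_reg d (res s E) (isCoh_res s hE) (suppLT_res hm hE.1 hsupp hs')
      (reg_res hm hreg)
    have hc : hd (res s E) 0 ≤ hd E 0 :=
      hd_res_le hm hE (Regularity.subsingleton_of_le hreg le_rfl (by norm_num))
    induction t with
    | zero => simp
    | succ t iht =>
      have h1 := hd_le hm hE ((t + 1 : ℕ) : ℤ)
      rw [show ((t + 1 : ℕ) : ℤ) - 1 = (t : ℤ) by push_cast; ring] at h1
      refine h1.trans ((add_le_add iht ((ih (t + 1)).trans (Nat.mul_le_mul_right _ hc))).trans ?_)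
      rw [← Nat.mul_add]
      refine Nat.mul_le_mul_left _ ?_
      have : (t + 1) ^ (d + 1) ≤ (t + 1) * (t + 1 + 1) ^ d := by
        rw [pow_succ, mul_comm]
        exact Nat.mul_le_mul_left _ (Nat.pow_le_pow_left (by omega) _)
      calc (t + 1) ^ (d + 1) + (t + 1 + 1) ^ d ≤ (t + 1) * (t + 1 + 1) ^ d + (t + 1 + 1) ^ d := by
            omega
        _ = (t + 1 + 1) ^ (d + 1) := by ring

/-- Surjectivity onto the sections of the hyperplane section moves up. -/
theorem surjective_succ {s : Coh.structureModule P ⟶ tw n k 1} {M : (P).Modules} {m : ℤ}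
    (hreg : Regularity.Reg (res s M) m) {r : ℤ} (hr : m ≤ r)
    (h : Function.Surjective (mapK k ((seq s M).map (tensorBy (tw n k r))).g 0)) :
    Function.Surjective (mapK k ((seq s M).map (tensorBy (tw n k (r + 1)))).g 0) := by
  let π := (seq s M).g
  let φ := (tensorBy (tw n k (r - n))).map π
  have hconj : ∀ (l : ℕ) (b : ℤ) (hb : r - n + l = b),
      Function.Surjective (mapK k ((Iterate.pow (Regularity.T n k) l).map φ) 0) ↔
        Function.Surjective (mapK k ((tensorBy (tw n k b)).map π) 0) := by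
    intro l b hb
    let α := powTwist (n := n) (k := k) l (r - n) b hb
    have e : (Iterate.pow (Regularity.T n k) l).map φ ≫ (α.app _).hom =
        (α.app _).hom ≫ (tensorBy (tw n k b)).map π := α.hom.naturality π
    have e' : ∀ x, isoK k (α.app _) 0 (mapK k ((Iterate.pow (Regularity.T n k) l).map φ) 0 x) =
        mapK k ((tensorBy (tw n k b)).map π) 0 (isoK k (α.app _) 0 x) := fun x => by
      have := congrArg (fun f => mapK k f 0 x) e
      simp only [mapK_comp, LinearMap.comp_apply] at this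
      exact this
    constructor
    · intro hs y
      obtain ⟨x, hx⟩ := hs ((isoK k (α.app _) 0).symm y)
      exact ⟨isoK k (α.app _) 0 x, by rw [← e', hx, LinearEquiv.apply_symm_apply]⟩
    · intro hs y
      obtain ⟨x, hx⟩ := hs (isoK k (α.app _) 0 y)
      refine ⟨(isoK k (α.app _) 0).symm x, (isoK k (α.app _) 0).injective ?_⟩
      rw [e', LinearEquiv.apply_symm_apply, hx]
  refine (hconj (n + 1) (r + 1) (by push_cast; ring)).1 ?_
  refine SurjProp.surjective_pow_succ φ (fun l p hl hp => ?_) ((hconj n r (by ring)).2 h)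
  exact Chase.subsingleton_of_iso k ((powTwist l (r - n) (r - p) (by omega)).app (res s M)).symm
    (Regularity.subsingleton_of_le hreg (by omega) (by omega))

theorem abs_chi_le {f g : ℤ} {b : ℕ} (hf : |f| ≤ (b : ℤ)) (hg : |g| ≤ (b : ℤ)) :
    |f - g| ≤ ((2 * b : ℕ) : ℤ) := by
  rw [abs_le] at *
  push_cast
  omega

/-- `h¹ ≤ h⁰ + |χ|` when the higher cohomology vanishes. -/
theorem h1_le (hn : 1 ≤ n) {M : (P).Modules} {t : ℤ}
    (h : ∀ q, 2 ≤ q → Subsingleton (Coh.HH P (tM M t) q)) :
    (Module.finrank k (Coh.HH P (tM M t) 1) : ℤ) ≤ hd M t + |chi M t| := by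
  have hc : chi M t = (hd M t : ℤ) - (Module.finrank k (Coh.HH P (tM M t) 1) : ℤ) := by
    unfold chi FGA.eulerCharLE
    rw [← Finset.sum_subset (s₁ := Finset.range 2) (fun q hq => by
      simp only [Finset.mem_range] at hq ⊢; omega) fun q _ hq => by
        have := h q (by simp at hq; omega)
        simp [Module.finrank_zero_of_subsingleton]]
    simp [Finset.sum_range_succ, hd, Curves.Euler.hdim]
    ring
  have := neg_abs_le (chi M t)
  omega

/-- **Mumford's bound.** -/
theorem reg_of_mono [Infinite k] (c : ℕ) : ∀ (d : ℕ) (E K : (P).Modules) (ι : K ⟶ E), Mono ι →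
    Coh.IsCoh E → Coh.IsCoh K → SuppLT E d → Regularity.Reg E 0 → hd E 0 ≤ c →
    ∀ (b : ℕ → ℕ) (N : ℕ), Monotone b → (∀ t : ℕ, N ≤ t → |chi K t| ≤ (b t : ℤ)) →
      Regularity.Reg K (mb c d b N)
  | 0, E, K, ι, hι, _, _, hsupp, _, _, b, N, _, _ => fun i _ =>
    subsingleton_of_isZero (IsZero.of_mono ι (isZero_of_suppLT hsupp)) _ i
  | d + 1, E, K, ι, hι, hE, hK, hsupp, hreg, hc, b, N, hb, hchi => by
    haveI := isNoetherian_proj n k
    haveI : Mono ι := hι
    have hF : Coh.IsCoh (cokernel ι) := CohBasics.Closure.isCoh_cokernel ι hK.1 hE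
    obtain ⟨s, hs⟩ := exists_common (isCoh_tensorMod hE (isCoh_tw (-1)))
      (isCoh_tensorMod hK (isCoh_tw (-1))) (isCoh_tensorMod hF (isCoh_tw (-1)))
    have hsE : ∀ x, Curv2.IsAssPoint (tM E (-1)) x → x ∈ CohB1.genLocus (tw n k 1) s :=
      fun x hx => hs x (Or.inl hx)
    have hmE := mono_nu s hE hsE
    have hmK := mono_nu s hK fun x hx => hs x (Or.inr (Or.inl hx))
    obtain ⟨j, hj⟩ := exists_mono_res ι (mono_nu s hF fun x hx => hs x (Or.inr (Or.inr hx)))
    have hc' : hd (res s E) 0 ≤ c :=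
      (hd_res_le hmE hE (Regularity.subsingleton_of_le hreg le_rfl (by norm_num))).trans hc
    have hres := reg_of_mono c d (res s E) (res s K) j hj (isCoh_res s hE) (isCoh_res s hK)
      (suppLT_res hmE hE.1 hsupp hsE) (reg_res hmE hreg) hc' (fun t => 2 * b t) (N + 1)
      (hb.const_mul' 2) fun t ht => by
        obtain ⟨t', rfl⟩ : ∃ t', t = t' + 1 := ⟨t - 1, by omega⟩
        rw [chi_res hmK hK, show ((t' + 1 : ℕ) : ℤ) - 1 = (t' : ℤ) by push_cast; ring]
        exact abs_chi_le (hchi _ (by omega)) ((hchi t' (by omega)).trans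
          (Int.ofNat_le.2 (hb (Nat.le_succ t'))))
    set m1 := mb c d (fun t => 2 * b t) (N + 1) + N + 1 with hm1
    have hR : Regularity.Reg (res s K) (m1 : ℤ) := Regularity.reg_of_le hres (by rw [hm1]; omega)
    obtain ⟨d₀, hd₀⟩ := exists_forall_subsingleton K hK
    -- higher cohomology
    have high : ∀ (j : ℕ) (q : ℕ) (r : ℤ), 2 ≤ q → (m1 : ℤ) - q ≤ r → (d₀ : ℤ) ≤ r + j →
        Subsingleton (Coh.HH P (tM K r) q) := by
      intro j
      induction j with
      | zero =>
        intro q r hq _ hr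
        obtain ⟨q', rfl⟩ : ∃ q', q = q' + 1 := ⟨q - 1, by omega⟩
        exact hd₀ r (by simpa using hr) q'
      | succ j ih =>
        intro q r hq hr hj
        obtain ⟨q', rfl⟩ : ∃ q', q = q' + 1 := ⟨q - 1, by omega⟩
        have h1 : Subsingleton (Coh.HH P (tM (res s K) (r + 1)) q') :=
          Regularity.subsingleton_of_le hR (by omega) (by push_cast at hr; omega)
        have := pred_vanish hmK h1 (ih (q' + 1) (r + 1) hq (by omega) (by push_cast at hj; omega))
        rwa [add_sub_cancel_right] at this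
    have high' : ∀ (q : ℕ) (r : ℤ), 2 ≤ q → (m1 : ℤ) - q ≤ r →
        Subsingleton (Coh.HH P (tM K r) q) := fun q r hq hr =>
      high ((d₀ : ℤ) - r).toNat q r hq hr (by omega)
    let f : ℤ → ℕ := fun r => Module.finrank k (Coh.HH P (tM K r) 1)
    have hv : ∀ r : ℤ, (m1 : ℤ) ≤ r → Subsingleton (Coh.HH P (tM (res s K) r) 1) := fun r hr =>
      Regularity.subsingleton_of_le hR le_rfl (by push_cast; omega)
    -- a surjection propagates, so a stationary value is zero
    have hzero : ∀ r : ℤ, (m1 : ℤ) ≤ r → f (r - 1) ≤ f r → f (r - 1) = 0 := by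
      intro r hr hle
      have hsur : ∀ i : ℕ, Function.Surjective
          (mapK k ((seq s K).map (tensorBy (tw n k (r + i)))).g 0) := by
        intro i
        induction i with
        | zero =>
          rw [Nat.cast_zero, add_zero]
          exact (h1_step hmK hK (hv r hr)).2 hle
        | succ i ih =>
          have := surjective_succ hR (r := r + i) (by omega) ih
          rw [show r + ((i + 1 : ℕ) : ℤ) = r + i + 1 by push_cast; ring]
          exact this
      have hmono : ∀ i : ℕ, f (r - 1) ≤ f (r + i - 1) := by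
        intro i
        induction i with
        | zero => simp
        | succ i ih =>
          refine ih.trans ?_
          have := h1_le_of_surjective hmK hK (hsur i)
          rw [show r + ((i + 1 : ℕ) : ℤ) - 1 = r + i by push_cast; ring]
          exact this
      have hz : f (r + ((d₀ : ℤ) - r + 1).toNat - 1) = 0 := by
        have h0 : Subsingleton (Coh.HH P (tM K (r + ((d₀ : ℤ) - r + 1).toNat - 1)) 1) :=
          hd₀ (r + ((d₀ : ℤ) - r + 1).toNat - 1) (by omega) 0
        exact Module.finrank_zero_of_subsingleton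
      exact Nat.le_zero.1 (hz ▸ hmono _)
    have hdec : ∀ i : ℕ, f ((m1 : ℤ) - 1 + i) ≤ f ((m1 : ℤ) - 1) - i := by
      intro i
      induction i with
      | zero => simp
      | succ i ih =>
        have h1 : f ((m1 : ℤ) + i) ≤ f ((m1 : ℤ) + i - 1) :=
          (h1_step hmK hK (hv ((m1 : ℤ) + i) (by omega))).1
        have h2 := hzero ((m1 : ℤ) + i) (by omega)
        rw [show (m1 : ℤ) - 1 + ((i + 1 : ℕ) : ℤ) = (m1 : ℤ) + i by push_cast; ring]
        rw [show (m1 : ℤ) - 1 + (i : ℤ) = (m1 : ℤ) + i - 1 by ring] at ih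
        rcases Nat.lt_or_ge (f ((m1 : ℤ) + i)) (f ((m1 : ℤ) + i - 1)) with hlt | hge
        · omega
        · have := h2 hge; omega
    -- the first value
    have hstart : f ((m1 : ℤ) - 1) ≤ c * (m1 + 1) ^ (d + 1) + b m1 := by
      rcases Nat.eq_zero_or_pos n with hn | hn
      · have hq : Coh.IsQCoh (tM K ((m1 : ℤ) - 1)) := (isCoh_tensorMod hK (isCoh_tw _)).1
        haveI : (tM K ((m1 : ℤ) - 1)).IsQuasicoherent := hq
        have : Subsingleton (Coh.HH P (tM K ((m1 : ℤ) - 1)) 1) :=
          ProjCoh.Twist.subsingleton_HH_of_lt _ (by omega)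
        exact ((Module.finrank_zero_of_subsingleton (R := k)
          (M := Coh.HH P (tM K ((m1 : ℤ) - 1)) 1)).le).trans (Nat.zero_le _)
      · have h1 := h1_le hn (M := K) (t := (m1 : ℤ) - 1) fun q hq => high' q _ hq (by omega)
        obtain ⟨t', ht'⟩ : ∃ t', m1 = t' + 1 := ⟨m1 - 1, by omega⟩
        rw [ht', show ((t' + 1 : ℕ) : ℤ) - 1 = (t' : ℤ) by push_cast; ring] at h1 ⊢
        have h2 := hchi t' (by omega)
        have h3 : hd K (t' : ℤ) ≤ hd E (t' : ℤ) := by
          haveI := fin_tM hE (t' : ℤ) 0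
          have : Mono ((tensorBy (tw n k (t' : ℤ))).map ι) :=
            (shortExact_tw (S := ShortComplex.mk ι (cokernel.π ι) (cokernel.condition ι))
              { exact := ShortComplex.exact_cokernel ι } (t' : ℤ)).mono_f
          exact @Curves.Euler.hdim_zero_le_of_mono k _ _ _ _ _ ((tensorBy (tw n k (t' : ℤ))).map ι)
            this _
        have h4 : hd K (t' : ℤ) ≤ c * (t' + 1 + 1) ^ (d + 1) :=
          h3.trans ((hd_le_of_reg (d + 1) E hE hsupp hreg t').trans
            (Nat.mul_le_mul hc (Nat.pow_le_pow_left (by omega) _)))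
        exact_mod_cast h1.trans (add_le_add (Int.ofNat_le.2 h4)
          (h2.trans (Int.ofNat_le.2 (hb (Nat.le_succ t')))))
    intro i hi
    have hM : mb c (d + 1) b N = m1 + c * (m1 + 1) ^ (d + 1) + b m1 := rfl
    rw [hM]
    rcases Nat.lt_or_ge i 2 with hi2 | hi2
    · obtain rfl : i = 1 := by omega
      have h1 := hdec (c * (m1 + 1) ^ (d + 1) + b m1)
      rw [Nat.sub_eq_zero_of_le hstart, Nat.le_zero] at h1
      rw [show ((m1 + c * (m1 + 1) ^ (d + 1) + b m1 : ℕ) : ℤ) - ((1 : ℕ) : ℤ) =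
        (m1 : ℤ) - 1 + ((c * (m1 + 1) ^ (d + 1) + b m1 : ℕ) : ℤ) by push_cast; ring]
      haveI := fin_tM hK ((m1 : ℤ) - 1 + ((c * (m1 + 1) ^ (d + 1) + b m1 : ℕ) : ℤ)) 1
      exact Module.finrank_zero_iff.1 h1
    · exact high' i _ hi2 (by omega)

end Groth.Agent.Lib.UnifReg.Main
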