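import Groth.Agent.Lib.UnifReg.Hyperplane
import Groth.Agent.Lib.Snapper.Finite
import Groth.Agent.Lib.Snapper.Twist
import Groth.Agent.Lib.Curves.Euler

/-!
# The hyperplane sequence

For a linear form `s` regular on `M(-1)`: `0 → M(t-1) → M(t) → M_H(t) → 0`.
-/

set_option autoImplicit false
universe u

open CategoryTheory CategoryTheory.Limits AlgebraicGeometry TopologicalSpace Opposite

noncomputable section

namespace Groth.Agent.Lib.UnifReg.Step

open Groth.Agent.Lib TensorMod.Basic ProjCoh.Coherent Curves.LES Hyperplane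

variable {n : ℕ} {k : Type u} [Field k]

local notation "P" => CohB1.ProjSpace n k

/-- `M(t)`. -/
abbrev tM (M : (P).Modules) (t : ℤ) : (P).Modules := CohB1.tensorMod M (tw n k t)

/-- `h⁰(M(t))`. -/
abbrev hd (M : (P).Modules) (t : ℤ) : ℕ := Curves.Euler.hdim k P (tM M t) 0

/-- `χ(M(t))`. -/
abbrev chi (M : (P).Modules) (t : ℤ) : ℤ := FGA.eulerCharLE k P (tM M t) n

/-- The dimension of the support is less than `d`. -/
def SuppLT (E : (P).Modules) (d : ℕ) : Prop :=
  haveI : IsProper (CohB1.ProjSpace n k ↘ Spec (CommRingCat.of k)) :=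
    ProjSpace.Basic.isProper_toSpec n k
  ∀ x, ¬ Subsingleton (E.presheaf.stalk x) →
    VarDim.Basic.pdim (CohB1.ProjSpace n k ↘ Spec (CommRingCat.of k)) x < d

theorem isNoetherian_proj (n : ℕ) (k : Type u) [Field k] :
    AlgebraicGeometry.IsNoetherian (CohB1.ProjSpace n k) :=
  haveI : IsProper (CohB1.ProjSpace n k ↘ Spec (CommRingCat.of k)) :=
    ProjSpace.Basic.isProper_toSpec n k
  Curves.GlobalSections.isNoetherian_of_proper k (CohB1.ProjSpace n k)

theorem fin_tM {M : (P).Modules} (hM : Coh.IsCoh M) (t : ℤ) (q : ℕ) :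
    FiniteDimensional k (Coh.HH P (tM M t) q) :=
  haveI : IsProper (CohB1.ProjSpace n k ↘ Spec (CommRingCat.of k)) :=
    ProjSpace.Basic.isProper_toSpec n k
  Snapper.Finite.cohFinite k P _ (isCoh_tensorMod hM (isCoh_tw t)) q

theorem suppLT_top (E : (P).Modules) : SuppLT E (n + 1) := by
  intro x _
  haveI : IsProper (CohB1.ProjSpace n k ↘ Spec (CommRingCat.of k)) :=
    ProjSpace.Basic.isProper_toSpec n k
  have h := VarDim.Basic.pdim_le_topologicalKrullDim_scheme
    (CohB1.ProjSpace n k ↘ Spec (CommRingCat.of k)) x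
  rw [ProjSpace.Dim.topologicalKrullDim_projSpace_of_field] at h
  exact Nat.lt_succ_of_le (by exact_mod_cast h)

theorem isZero_of_suppLT {E : (P).Modules} (h : SuppLT E 0) : IsZero E :=
  Modules.Stalk.isZero_iff_stalk_subsingleton.2 fun x => by
    by_contra hx
    exact absurd (h x hx) (Nat.not_lt_zero _)

theorem subsingleton_of_isZero {E : (P).Modules} (h : IsZero E) (t : ℤ) (q : ℕ) :
    Subsingleton (Coh.HH P (tM E t) q) :=
  (ProjKoszul.Chase.isZero_cohFun_iff k).1
    ((ProjKoszul.Chase.cohFun k q).map_isZero ((tensorBy (tw n k t)).map_isZero h))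

variable (s : Coh.structureModule (CohB1.ProjSpace n k) ⟶ tw n k 1) (M : (CohB1.ProjSpace n k).Modules)

/-- Multiplication by `s` on `M(-1)`. -/
def nu : tM M (-1) ⟶ tM (tM M (-1)) 1 := (mulS s).app (tM M (-1))

/-- The hyperplane section. -/
def res : (P).Modules := cokernel (nu s M)

/-- The hyperplane sequence. -/
def seq : ShortComplex (P).Modules :=
  ShortComplex.mk (nu s M) (cokernel.π (nu s M)) (cokernel.condition (nu s M))

theorem shortExact_seq (hm : Mono (nu s M)) : (seq s M).ShortExact :=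
  { exact := ShortComplex.exact_cokernel (nu s M)
    mono_f := hm
    epi_g := (inferInstance : Epi (cokernel.π (nu s M))) }

theorem isCoh_res {M : (P).Modules} (hM : Coh.IsCoh M) : Coh.IsCoh (res s M) :=
  CohBasics.Closure.isCoh_cokernel (nu s M) (isCoh_tensorMod hM (isCoh_tw (-1))).1
    (isCoh_tensorMod (isCoh_tensorMod hM (isCoh_tw (-1))) (isCoh_tw 1))

/-- `M(a)(b) ≅ M(c)`. -/
def twIso2 (A : (P).Modules) (a b c : ℤ) (h : a + b = c) : tM (tM A a) b ≅ tM A c :=
  assoc A (tw n k a) (tw n k b) ≪≫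
    tensorIso (Iso.refl A) (twTensor a b ≪≫ eqToIso (congrArg (tw n k) h))

/-- `M(-1)(t) ≅ M(t-1)`. -/
def iso₁ (t : ℤ) : ((seq s M).map (tensorBy (tw n k t))).X₁ ≅ tM M (t - 1) :=
  twIso2 M (-1) t (t - 1) (by ring)

/-- `M(-1)(1)(t) ≅ M(t)`. -/
def iso₂ (t : ℤ) : ((seq s M).map (tensorBy (tw n k t))).X₂ ≅ tM M t :=
  twIso2 (tM M (-1)) 1 t (t + 1) (by ring) ≪≫ twIso2 M (-1) (t + 1) t (by ring)

variable {s M}

section

variable (hm : Mono (nu s M))
include hm

theorem shortExact_seqT (t : ℤ) : ((seq s M).map (tensorBy (tw n k t))).ShortExact :=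
  shortExact_tw (shortExact_seq s M hm) t

theorem res_vanish {t : ℤ} {q : ℕ} (h1 : Subsingleton (Coh.HH P (tM M t) q))
    (h2 : Subsingleton (Coh.HH P (tM M (t - 1)) (q + 1))) :
    Subsingleton (Coh.HH P (tM (res s M) t) q) := by
  have hS := shortExact_seqT hm t
  have h1' := ProjKoszul.Chase.subsingleton_of_iso k (iso₂ s M t).symm h1
  have h2' := ProjKoszul.Chase.subsingleton_of_iso k (iso₁ s M t).symm h2
  refine subsingleton_of_forall_eq 0 fun x => ?_
  obtain ⟨y, hy⟩ := (exactK₃ k hS q (q + 1) rfl x).1 (@Subsingleton.elim _ h2' _ _)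
  rw [← hy, show y = 0 from @Subsingleton.elim _ h1' _ _, map_zero]
  rfl

theorem pred_vanish {t : ℤ} {q : ℕ} (h1 : Subsingleton (Coh.HH P (tM (res s M) t) q))
    (h2 : Subsingleton (Coh.HH P (tM M t) (q + 1))) :
    Subsingleton (Coh.HH P (tM M (t - 1)) (q + 1)) := by
  have hS := shortExact_seqT hm t
  have h2' := ProjKoszul.Chase.subsingleton_of_iso k (iso₂ s M t).symm h2
  refine ProjKoszul.Chase.subsingleton_of_iso k (iso₁ s M t) ?_
  refine subsingleton_of_forall_eq 0 fun x => ?_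
  obtain ⟨y, hy⟩ := (exactK₁ k hS q (q + 1) rfl x).1 (@Subsingleton.elim _ h2' _ _)
  rw [← hy, show y = 0 from @Subsingleton.elim _ h1 _ _, map_zero]

theorem h1_step (hM : Coh.IsCoh M) {t : ℤ} (h : Subsingleton (Coh.HH P (tM (res s M) t) 1)) :
    Module.finrank k (Coh.HH P (tM M t) 1) ≤ Module.finrank k (Coh.HH P (tM M (t - 1)) 1) ∧
    (Module.finrank k (Coh.HH P (tM M (t - 1)) 1) ≤ Module.finrank k (Coh.HH P (tM M t) 1) →
      Function.Surjective (mapK k ((seq s M).map (tensorBy (tw n k t))).g 0)) := by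
  have hS := shortExact_seqT hm t
  haveI := fin_tM hM t 1
  haveI := fin_tM hM (t - 1) 1
  let e₁ := isoK k (iso₁ s M t) 1
  let e₂ := isoK k (iso₂ s M t) 1
  haveI : FiniteDimensional k (Coh.HH P ((seq s M).map (tensorBy (tw n k t))).X₁ 1) :=
    e₁.symm.finiteDimensional
  haveI : FiniteDimensional k (Coh.HH P ((seq s M).map (tensorBy (tw n k t))).X₂ 1) :=
    e₂.symm.finiteDimensional
  let g := mapK k ((seq s M).map (tensorBy (tw n k t))).f 1
  have hg : Function.Surjective g := fun x =>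
    (exactK₂ k hS 1 x).1 (@Subsingleton.elim _ h _ _)
  have h1 := LinearMap.finrank_le_finrank_of_surjective hg
  refine ⟨by rw [← e₁.finrank_eq, ← e₂.finrank_eq]; exact h1, fun hle x => ?_⟩
  rw [← e₁.finrank_eq, ← e₂.finrank_eq] at hle
  have hinj : Function.Injective g :=
    (LinearMap.injective_iff_surjective_of_finrank_eq_finrank (le_antisymm hle h1)).2 hg
  refine (exactK₃ k hS 0 1 rfl x).1 (hinj ?_)
  rw [map_zero]
  exact (exactK₁ k hS 0 1 rfl _).2 ⟨x, rfl⟩

theorem h1_le_of_surjective (hM : Coh.IsCoh M) {t : ℤ}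
    (h : Function.Surjective (mapK k ((seq s M).map (tensorBy (tw n k t))).g 0)) :
    Module.finrank k (Coh.HH P (tM M (t - 1)) 1) ≤ Module.finrank k (Coh.HH P (tM M t) 1) := by
  have hS := shortExact_seqT hm t
  haveI := fin_tM hM t 1
  let e₁ := isoK k (iso₁ s M t) 1
  let e₂ := isoK k (iso₂ s M t) 1
  haveI : FiniteDimensional k (Coh.HH P ((seq s M).map (tensorBy (tw n k t))).X₂ 1) :=
    e₂.symm.finiteDimensional
  rw [← e₁.finrank_eq, ← e₂.finrank_eq]
  refine LinearMap.finrank_le_finrank_of_injective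
    (f := mapK k ((seq s M).map (tensorBy (tw n k t))).f 1) ((injective_iff_map_eq_zero _).2 fun x hx => ?_)
  obtain ⟨y, rfl⟩ := (exactK₁ k hS 0 1 rfl x).1 hx
  obtain ⟨z, rfl⟩ := h y
  exact (exactK₃ k hS 0 1 rfl _).2 ⟨z, rfl⟩

theorem hd_le (hM : Coh.IsCoh M) (t : ℤ) : hd M t ≤ hd M (t - 1) + hd (res s M) t := by
  have hS := shortExact_seqT hm t
  haveI := fin_tM hM (t - 1) 0
  haveI := fin_tM (isCoh_res s hM) t 0
  haveI : FiniteDimensional k (Coh.HH P ((seq s M).map (tensorBy (tw n k t))).X₁ 0) :=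
    (isoK k (iso₁ s M t) 0).symm.finiteDimensional
  haveI : FiniteDimensional k (Coh.HH P ((seq s M).map (tensorBy (tw n k t))).X₃ 0) :=
    fin_tM (isCoh_res s hM) t 0
  have h := Curves.Euler.hdim_zero_le_add (k := k) hS
  have e₁ := (isoK k (iso₁ s M t) 0).finrank_eq
  have e₂ := (isoK k (iso₂ s M t) 0).finrank_eq
  unfold hd Curves.Euler.hdim at *
  rw [← e₁, ← e₂]
  exact h

theorem hd_res_le (hM : Coh.IsCoh M) {t : ℤ} (h : Subsingleton (Coh.HH P (tM M (t - 1)) 1)) :
    hd (res s M) t ≤ hd M t := by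
  have hS := shortExact_seqT hm t
  have h' := ProjKoszul.Chase.subsingleton_of_iso k (iso₁ s M t).symm h
  haveI := fin_tM hM t 0
  haveI : FiniteDimensional k (Coh.HH P ((seq s M).map (tensorBy (tw n k t))).X₂ 0) :=
    (isoK k (iso₂ s M t) 0).symm.finiteDimensional
  have h1 : Function.Surjective (mapK k ((seq s M).map (tensorBy (tw n k t))).g 0) := fun x =>
    (exactK₃ k hS 0 1 rfl x).1 (@Subsingleton.elim _ h' _ _)
  have h2 := LinearMap.finrank_le_finrank_of_surjective h1
  have e₂ := (isoK k (iso₂ s M t) 0).finrank_eq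
  unfold hd Curves.Euler.hdim at *
  rw [← e₂]
  exact h2

theorem chi_res (hM : Coh.IsCoh M) (t : ℤ) : chi (res s M) t = chi M t - chi M (t - 1) := by
  haveI := isNoetherian_proj n k
  haveI : IsProper (CohB1.ProjSpace n k ↘ Spec (CommRingCat.of k)) :=
    ProjSpace.Basic.isProper_toSpec n k
  have hS := shortExact_seqT hm t
  have h := Snapper.Chi.eulerCharLE_add (Snapper.Finite.cohFinite k P) (d := n)
    (ProjSpace.Dim.topologicalKrullDim_projSpace_of_field n k).le hS
    (isCoh_tensorMod (isCoh_tensorMod hM (isCoh_tw (-1))) (isCoh_tw t))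
    (isCoh_tensorMod (isCoh_tensorMod (isCoh_tensorMod hM (isCoh_tw (-1))) (isCoh_tw 1)) (isCoh_tw t))
    (isCoh_tensorMod (isCoh_res s hM) (isCoh_tw t))
  rw [Snapper.Chi.eulerCharLE_of_iso (iso₁ s M t), Snapper.Chi.eulerCharLE_of_iso (iso₂ s M t)] at h
  change _ = _ + chi (res s M) t at h
  unfold chi at *
  omega

theorem suppLT_res (hM : Coh.IsQCoh M) {d : ℕ} (hd' : SuppLT M (d + 1))
    (hs : ∀ x, Curv2.IsAssPoint (tM M (-1)) x → x ∈ CohB1.genLocus (tw n k 1) s) :
    SuppLT (res s M) d := by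
  haveI : IsProper (CohB1.ProjSpace n k ↘ Spec (CommRingCat.of k)) :=
    ProjSpace.Basic.isProper_toSpec n k
  intro x hx
  obtain ⟨hxg, hx1⟩ := support_coker s (tM M (-1)) hx
  have hst : ∀ (A : (P).Modules) (a : ℤ) (y : P),
      Subsingleton ((tM A a).presheaf.stalk y) ↔ Subsingleton (A.presheaf.stalk y) := fun A a y => by
    obtain ⟨e⟩ := Snapper.Twist.exists_stalkEquiv_twist (isInvertible_tw (n := n) (R := k) a) A y
    exact (Modules.StalkModule.stalkLinearEquiv (comm A (tw n k a)) y).toEquiv.subsingleton_congr.trans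
      e.toEquiv.subsingleton_congr
  have hx1' : ¬ Subsingleton ((tM (tM M (-1)) 1).presheaf.stalk x) := hx1
  rw [hst] at hx1'
  haveI : (tM M (-1)).IsQuasicoherent :=
    haveI : M.IsQuasicoherent := hM
    haveI : (tw n k (-1)).IsQuasicoherent := (isCoh_tw (-1)).1
    TensorMod.TensorQCoh.isQCoh_tensorMod M (tw n k (-1))
  obtain ⟨y, hyx, hy⟩ := AssPt.Modules.exists_assPoint_of_stalk_nontrivial (M := tM M (-1)) hx1'
  have hne : y ≠ x := fun e => hxg (e ▸ hs y hy)
  have h1 := VarDim.Basic.pdim_lt (CohB1.ProjSpace n k ↘ Spec (CommRingCat.of k)) hyx hne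
  have h2 := hd' y fun hsub => AssPt.Modules.nontrivial_stalk_of_assPoint hy ((hst M (-1) y).2 hsub)
  omega

end

/-- A map of short exact sequences, injective on the right, is injective on left cokernels. -/
theorem mono_cokernel_map {C : Type*} [Category C] [Abelian C] {S₁ S₂ : ShortComplex C}
    (h₁ : S₁.ShortExact) (h₂ : S₂.ShortExact) (φ : S₁ ⟶ S₂) [Mono φ.τ₃] :
    Mono (cokernel.map φ.τ₁ φ.τ₂ S₁.f S₂.f φ.comm₁₂) := by
  haveI := h₁.mono_f
  haveI := h₂.mono_f
  refine Abelian.mono_cokernel_map_of_isPullback (IsPullback.of_isLimit' ⟨φ.comm₁₂⟩ ?_)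
  refine PullbackCone.IsLimit.mk _ (fun c => h₁.fIsKernel.lift (KernelFork.ofι c.snd ?_)) ?_ ?_ ?_
  · refine (cancel_mono φ.τ₃).1 ?_
    rw [Category.assoc, ← φ.comm₂₃, ← Category.assoc, ← c.condition, Category.assoc, S₂.zero,
      comp_zero, zero_comp]
  · intro c
    refine (cancel_mono S₂.f).1 ?_
    rw [Category.assoc, φ.comm₁₂, ← Category.assoc]
    exact (congrArg (· ≫ φ.τ₂) (Fork.IsLimit.lift_ι h₁.fIsKernel)).trans c.condition.symm
  · intro c
    exact Fork.IsLimit.lift_ι h₁.fIsKernel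
  · intro c m _ h2
    refine (cancel_mono S₁.f).1 (h2.trans ?_)
    have e := Fork.IsLimit.lift_ι (t := KernelFork.ofι c.snd (show c.snd ≫ S₁.g = 0 from by
      refine (cancel_mono φ.τ₃).1 ?_
      rw [Category.assoc, ← φ.comm₂₃, ← Category.assoc, ← c.condition, Category.assoc, S₂.zero,
        comp_zero, zero_comp])) h₁.fIsKernel
    exact e.symm

theorem nu_natural {A B : (P).Modules} (f : A ⟶ B) :
    nu s A ≫ tmap (tmap f (𝟙 (tw n k (-1)))) (𝟙 (tw n k 1)) =
      tmap f (𝟙 (tw n k (-1))) ≫ nu s B :=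
  mulS_natural s (tmap f (𝟙 (tw n k (-1))))

/-- The restriction of a submodule. -/
theorem exists_mono_res {K E : (P).Modules} (ι : K ⟶ E) [Mono ι]
    (hm : Mono (nu s (cokernel ι))) : ∃ j : res s K ⟶ res s E, Mono j := by
  let S : ShortComplex (P).Modules := ShortComplex.mk ι (cokernel.π ι) (cokernel.condition ι)
  have hS : S.ShortExact := { exact := ShortComplex.exact_cokernel ι }
  let φ : S.map (tensorBy (tw n k (-1))) ⟶
      (S.map (tensorBy (tw n k (-1)))).map (tensorBy (tw n k 1)) :=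
    { τ₁ := nu s K
      τ₂ := nu s E
      τ₃ := nu s (cokernel ι)
      comm₁₂ := nu_natural ι
      comm₂₃ := nu_natural (cokernel.π ι) }
  haveI : Mono φ.τ₃ := hm
  exact ⟨_, mono_cokernel_map (shortExact_tw hS (-1)) (shortExact_tw (shortExact_tw hS (-1)) 1) φ⟩

end Groth.Agent.Lib.UnifReg.Step
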