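import Groth.Agent.Lib.ProjKoszul.Regularity

/-!
# Surjectivity on global sections propagates along twists

If `M ⟶ M'` is surjective on `H⁰` after `n` twists and the low layers of `M'` are acyclic, it is
surjective after `n + 1` twists (naturality of the Koszul complex).
-/

set_option autoImplicit false
universe w v u w' v'

open CategoryTheory CategoryTheory.Limits CochainComplex CochainComplex.HomComplex

namespace Groth.Agent.Lib.UnifReg.SurjProp

open Groth.Agent.Lib ProjKoszul.Iterate

section General

variable {C : Type u} [Category.{v} C] [Abelian C] (T : C ⥤ C) [T.Additive]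
  (μ : ℕ → (𝟭 C ⟶ T)) {E : Type w} [Category.{w'} E] [Preadditive E]

/-- A functor epi on the layers is epi on the terms. -/
theorem epi_map_kos_f (G : C ⥤ E) [G.Additive] {M M' : C} (φ : M ⟶ M') :
    ∀ (s m : ℕ) (i : ℤ),
      (-(s : ℤ) ≤ i → i ≤ 0 → ∀ l : ℕ, (l : ℤ) = m + s + i → Epi (G.map ((pow T l).map φ))) →
        Epi (G.map ((pow T m).map (((kos T μ s).map φ).f i)))
  | 0, m, i, h => by
    refine Preadditive.epi_of_cancel_zero _ fun {Z} b hb => ?_
    by_cases hi : i = 0
    · subst hi
      change G.map ((pow T m).map (((HomologicalComplex.single C (ComplexShape.up ℤ) 0).map φ).f 0)) ≫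
        b = 0 at hb
      let e' := HomologicalComplex.singleObjXSelf (ComplexShape.up ℤ) 0 M'
      rw [HomologicalComplex.single_map_f_self (ComplexShape.up ℤ) 0 φ] at hb
      simp only [Functor.map_comp, Category.assoc] at hb
      have h1 : Epi (G.map ((pow T m).map φ)) := h (by simp) le_rfl m (by simp)
      have h2 := (cancel_epi _).1 (hb.trans comp_zero.symm)
      have h3 := (cancel_epi _).1 (h2.trans comp_zero.symm)
      exact (cancel_epi (G.map ((pow T m).map e'.inv))).1 (h3.trans comp_zero.symm)
    · have hz : IsZero (((HomologicalComplex.single C (ComplexShape.up ℤ) 0).obj M').X i) :=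
        HomologicalComplex.isZero_single_obj_X (ComplexShape.up ℤ) 0 M' i hi
      exact (G.map_isZero ((pow T m).map_isZero hz)).eq_of_src b 0
  | s + 1, m, i, h => by
    let K := (kos T μ s).obj M
    let f := (kos T μ s).map φ
    let ψ := natHom T (μ s) K
    let ψ' := natHom T (μ s) ((kos T μ s).obj M')
    let g := mappingCone.map ψ ψ' f ((T.mapHomologicalComplex _).map f) (natHom_natural T (μ s) f)
    have h₁ : Epi (G.map ((pow T m).map (f.f (i + 1)))) :=
      epi_map_kos_f G φ s m (i + 1) fun a b l hl =>
        h (by omega) (by omega) l (by push_cast at hl ⊢; omega)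
    have h₂ : Epi (G.map ((pow T m).map (T.map (f.f i)))) :=
      epi_map_kos_f G φ s (m + 1) i fun a b l hl =>
        h (by omega) (by omega) l (by push_cast at hl ⊢; omega)
    have hl : (mappingCone.inl ψ).v (i + 1) i (by omega) ≫ g.f i =
        f.f (i + 1) ≫ (mappingCone.inl ψ').v (i + 1) i (by omega) := by
      simp [g, mappingCone.map]
    have hr : (mappingCone.inr ψ).f i ≫ g.f i = T.map (f.f i) ≫ (mappingCone.inr ψ').f i := by
      simp [g, mappingCone.map]
      rfl
    change Epi (G.map ((pow T m).map (g.f i)))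
    refine Preadditive.epi_of_cancel_zero _ fun {Z} b hb => ?_
    have key : ∀ {W X : C} (a : W ⟶ (mappingCone ψ).X i) (c : W ⟶ X)
        (d : X ⟶ (mappingCone ψ').X i), a ≫ g.f i = c ≫ d → Epi (G.map ((pow T m).map c)) →
        G.map ((pow T m).map d) ≫ b = 0 := fun a c d e he => by
      refine (cancel_epi (G.map ((pow T m).map c))).1 ?_
      rw [comp_zero, ← Category.assoc, ← G.map_comp, ← Functor.map_comp, ← e, Functor.map_comp,
        G.map_comp, Category.assoc]
      exact (congrArg (_ ≫ ·) hb).trans comp_zero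
    have k₁ := key _ _ _ hl h₁
    have k₂ := key _ _ _ hr h₂
    have e := congrArg (fun x => G.map ((pow T m).map x) ≫ b) (mappingCone.id_X ψ' i (i + 1) rfl)
    simp only [Functor.map_add, Functor.map_comp, Preadditive.add_comp, Category.assoc] at e
    erw [k₁, k₂] at e
    simp at e
    exact e.symm.trans comp_zero

/-- Epi on the top term gives epi on the top layer. -/
theorem epi_map_top (G : C ⥤ E) {M M' : C} (φ : M ⟶ M') :
    ∀ (s m : ℕ), Epi (G.map ((pow T m).map (((kos T μ s).map φ).f 0))) →
      Epi (G.map ((pow T (m + s)).map φ))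
  | 0, m, h => by
    let e₁ := (HomologicalComplex.singleObjXSelf (ComplexShape.up ℤ) 0 M)
    let e₂ := (HomologicalComplex.singleObjXSelf (ComplexShape.up ℤ) 0 M')
    have hφ : φ = e₁.inv ≫ ((HomologicalComplex.single C (ComplexShape.up ℤ) 0).map φ).f 0 ≫ e₂.hom := by
      rw [HomologicalComplex.single_map_f_self (ComplexShape.up ℤ) 0 φ]
      simp [e₁, e₂]
    change Epi (G.map ((pow T m).map φ))
    rw [hφ]
    simp only [Functor.map_comp]
    haveI : Epi (G.map ((pow T m).map
      (((HomologicalComplex.single C (ComplexShape.up ℤ) 0).map φ).f 0))) := h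
    exact epi_comp _ _
  | s + 1, m, h => by
    let f := (kos T μ s).map φ
    let ψ := natHom T (μ s) ((kos T μ s).obj M)
    let ψ' := natHom T (μ s) ((kos T μ s).obj M')
    let g := mappingCone.map ψ ψ' f ((T.mapHomologicalComplex _).map f) (natHom_natural T (μ s) f)
    have hr : (mappingCone.inr ψ).f 0 ≫ g.f 0 = T.map (f.f 0) ≫ (mappingCone.inr ψ').f 0 := by
      simp [g, mappingCone.map]
      rfl
    have hg : T.map (f.f 0) = (topIso T μ M s).hom ≫ g.f 0 ≫ (topIso T μ M' s).inv := by
      have e : (topIso T μ M s).hom ≫ g.f 0 = T.map (f.f 0) ≫ (topIso T μ M' s).hom := hr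
      rw [← Category.assoc, e]
      exact ((Category.assoc _ _ _).trans
        ((congrArg (T.map (f.f 0) ≫ ·) (topIso T μ M' s).hom_inv_id).trans (Category.comp_id _))).symm
    have h1 : Epi (G.map ((pow T (m + 1)).map (f.f 0))) := by
      change Epi (G.map ((pow T m).map (T.map (f.f 0))))
      rw [hg]
      simp only [Functor.map_comp]
      exact epi_comp' (@IsIso.epi_of_iso _ _ _ _ _ ((G.mapIso ((pow T m).mapIso (topIso T μ M s))).isIso_hom))
        (@epi_comp _ _ _ _ _ _ h _
          (@IsIso.epi_of_iso _ _ _ _ _ ((G.mapIso ((pow T m).mapIso (topIso T μ M' s).symm)).isIso_hom)))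
    have := epi_map_top G φ s (m + 1) h1
    rwa [show m + 1 + s = m + (s + 1) by omega] at this

end General

section Proj

open AlgebraicGeometry ProjKoszul.Regularity Curves.LES

variable {n : ℕ} {R : Type u} [CommRing R]

/-- Surjectivity on `H⁰` moves one twist up. -/
theorem surjective_pow_succ {M M' : (CohB1.ProjSpace n R).Modules} (φ : M ⟶ M')
    (h : ∀ (l p : ℕ), l < n → p + l = n →
      Subsingleton (Coh.HH (CohB1.ProjSpace n R) ((pow (T n R) l).obj M') p))
    (hs : Function.Surjective (mapK R ((pow (T n R) n).map φ) 0)) :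
    Function.Surjective (mapK R ((pow (T n R) (n + 1)).map φ) 0) := by
  let G := ProjKoszul.Chase.cohFun (X := CohB1.ProjSpace n R) R 0
  have hiff : ∀ {A B : (CohB1.ProjSpace n R).Modules} (ψ : A ⟶ B),
      Epi (G.map ψ) ↔ Function.Surjective (mapK R ψ 0) := fun ψ => AddCommGrpCat.epi_iff_surjective _
  have h1 : Epi (G.map (((kos (T n R) (μ n R) (n + 1)).map φ).f (-1))) :=
    epi_map_kos_f (T n R) (μ n R) G φ (n + 1) 0 (-1) fun _ _ l hl => by
      obtain rfl : l = n := by push_cast at hl; omega
      exact (hiff _).2 hs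
  have hd : Function.Surjective (mapK R ((koszul M').d (-1) 0) 0) :=
    ProjKoszul.Chase.surjective_top R (koszul M') (exactAt_koszul M') (-((n + 1 : ℕ) : ℤ))
      (fun j hj => isZero_koszul M' j (Or.inl hj)) (isZero_koszul M' _ (Or.inr (by norm_num)))
      fun j p _ hj hp => subsingleton_term M' j p fun l hl => h l p (by omega) (by omega)
  have h2 : Epi (G.map (((kos (T n R) (μ n R) (n + 1)).map φ).f 0)) := by
    have e := congrArg G.map (((kos (T n R) (μ n R) (n + 1)).map φ).comm (-1) 0)
    rw [G.map_comp, G.map_comp] at e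
    refine @epi_of_epi_fac _ _ _ _ _ _ _ _ ?_ e.symm
    exact epi_comp' h1 ((hiff _).2 hd)
  have h3 := epi_map_top (T n R) (μ n R) G φ (n + 1) 0 h2
  rw [zero_add] at h3
  exact (hiff _).1 h3

end Proj

end Groth.Agent.Lib.UnifReg.SurjProp
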